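import Mathlib
import Cfsg.Agent.Base
import Cfsg.Agent.Lib.M12C.Tab

/-! the group 2 × SD16 (helper69; generated) -/

set_option autoImplicit false
set_option maxRecDepth 100000

namespace H69.LAE
open H54 (Tr force band)
open H18.TC
noncomputable def T_0 : Tr := (.node (nat_lit 1) (.node (nat_lit 0) (.leaf (nat_lit 0x20f86fe84b19ad1eec67b007000070b9cee38bc3fe11f053c00a800030c0cf007f89310cf427d011800015fc5ff9cc94331ae077800700006cd1ab436d437f13e44b900a80002cd8ab605fc8b70ae82fa00380001ce07f810e423a01fc0ff000000018ec5bb0ef01bd04f80be)) (.leaf (nat_lit 0x34e8bfa428de2432d8b7600a80008c962a523e972628dc9770070000a49e9e79faa6fb9db28ac007000054ad4ab4fed36862b58ed011800069f1afcbda65ea6eb9c6e007000048a12e8ab9cd7c3bbceaf011800029f4afd46a2fe92ec0c7000a800094aa66a21f55ab26c49f1))) (.node (nat_lit 2) (.leaf (nat_lit 0x4cd51f54ecd1764a8d0e300e0000ba86d61c0dafb4b792f2400000009ade4f798d28329696465011800051cd4f355deca15a996260070000888a1628e960f8a1ca7b201180005d997e665e1a2364cd873000000074e5bf9769242572d1b740070000408cfa38088df939d4f35))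 (.leaf (nat_lit 0x1180007991ee47d9a0a2b386c210070000b6a6e69b1aeb67af82d20007000086b21ec8181fefa99e9a701180003dbcfef67b507044a126800700007c81ea077c1d6ebba6e29011800089c62f18fba36c92aa56a003800060b57ad5bc5fa057ad66b00e0000a8ca8f2ae86b35a58aaa2))))
noncomputable def J_0 : Tr := (.node (nat_lit 1) (.node (nat_lit 0) (.leaf (nat_lit 0x40000000002002000000000800100100080000000000014004000000001000200200100000000000010000000000000800800400000000000020020000000008000000001000000100100080000000000000000000000)) (.leaf (nat_lit 0x40000000002002000000000200200000000080000000008006002001000000000000000140040000030004004002002001000000200000000080050010008000001001000800000200000080000000028008000000002))) (.node (nat_lit 2) (.leaf (nat_lit 0x4000001000200200000040040000000010000000000001000000000080080020020010018000000000000000000600080080040000008008004008000000000c000000001000000000080080000000000004004002000)) (.leaf (nat_lit 0x40040020030000004000000000000400300100080000000000018006002002000000200200100200040000010000000000001800800800000080080040060010000004000000000001000100100080000010010000000004000))))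
noncomputable def F_0 : Tr := (.node (nat_lit 2) (.node (nat_lit 0) (.leaf (nat_lit 0xf7f17b569de6f596b16a4a2728c1ee20c4731401)) (.node (nat_lit 1) (.leaf (nat_lit 0xf7f17b569de6f596b16a4a2728c1ee20c4731401)) (.leaf (nat_lit 0xee20f8cfea4adbe3f346de497a8ed4905cc020a2)))) (.node (nat_lit 3) (.leaf (nat_lit 0xcd3f27c5de62568d1f7de16a4b62e29c02d500c3)) (.node (nat_lit 4) (.leaf (nat_lit 0xdda70fba4d5790cee4dc2eb141dc550c5e05a4e4)) (.leaf (nat_lit 0xdda70fba4d5790cee4dc2eb141dc550c5e05a4e4)))))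
noncomputable def T : Tr := T_0
noncomputable def J : Tr := J_0
noncomputable def F : Tr := F_0
noncomputable def row (u : ℕ) : ℕ := Nat.land (Nat.shiftRight (force (Nat.shiftRight u (nat_lit 3)) T.get) (Nat.mul (Nat.land u (nat_lit 7)) (nat_lit 112))) (nat_lit 0xffffffffffffffffffffffffffff)
noncomputable def jrow (u : ℕ) : ℕ := Nat.land (Nat.shiftRight (force (Nat.shiftRight u (nat_lit 3)) J.get) (Nat.mul (Nat.land u (nat_lit 7)) (nat_lit 91))) (nat_lit 0x7ffffffffffffffffffffff)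
noncomputable def fget (k fx : ℕ) : ℕ := F.get (Nat.add k fx)
noncomputable def wt0 : LT := (.node (nat_lit 1) (.node (nat_lit 0) (.leaf 1 0 [nat_lit 14])
(.leaf 9 1 [nat_lit 42, nat_lit 0, nat_lit 28]))
(.node (nat_lit 2) (.leaf 11 1 [nat_lit 70, nat_lit 0, nat_lit 56])
(.leaf 0 0 [])))
noncomputable def wt1 : LT := (.node (nat_lit 0) (.leaf 9 3 [nat_lit 28, nat_lit 14, nat_lit 42])
(.node (nat_lit 1) (.leaf 11 3 [nat_lit 56, nat_lit 14, nat_lit 70])
(.leaf 0 0 [])))
noncomputable def wt2 : LT := (.node (nat_lit 1) (.node (nat_lit 0) (.leaf 7 2 [nat_lit 70, nat_lit 28, nat_lit 28, nat_lit 28, nat_lit 70])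
(.leaf 9 2 [nat_lit 0, nat_lit 28, nat_lit 14]))
(.leaf 0 0 []))
noncomputable def wt3 : LT := (.node (nat_lit 2) (.node (nat_lit 0) (.leaf 7 5 [nat_lit 28, nat_lit 70, nat_lit 42, nat_lit 70, nat_lit 28])
(.node (nat_lit 1) (.leaf 7 4 [nat_lit 28, nat_lit 28, nat_lit 70, nat_lit 42, nat_lit 70])
(.leaf 7 0 [nat_lit 70, nat_lit 42, nat_lit 70, nat_lit 28, nat_lit 28])))
(.node (nat_lit 3) (.leaf 9 0 [nat_lit 14, nat_lit 42, nat_lit 0])
(.leaf 0 0 [])))
noncomputable def wt4 : LT := (.node (nat_lit 0) (.leaf 5 0 [nat_lit 70])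
(.node (nat_lit 1) (.leaf 11 2 [nat_lit 0, nat_lit 56, nat_lit 14])
(.node (nat_lit 2) (.leaf 7 3 [nat_lit 28, nat_lit 28, nat_lit 28, nat_lit 70, nat_lit 42])
(.leaf 0 0 []))))
noncomputable def wt5 : LT := (.leaf 0 0 [])
noncomputable def wt6 : LT := (.leaf 0 0 [])
noncomputable def sl : List (ℕ × ℕ × List ℕ × List ℕ) := []
/-- the inverse column -/
noncomputable def icol (x : ℕ) : ℕ := List.getD [nat_lit 1, nat_lit 0, nat_lit 3, nat_lit 2, nat_lit 5, nat_lit 4] x x
noncomputable def inv (x : ℕ) : ℕ := Nat.mul (icol (Nat.div x (nat_lit 14))) (nat_lit 14)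
def cols : List ℕ := [nat_lit 84, nat_lit 0, nat_lit 14, nat_lit 28, nat_lit 42, nat_lit 56, nat_lit 70]
noncomputable def cl : CL := (.cons (nat_lit 0) (nat_lit 14) (nat_lit 0) (nat_lit 0) wt0
(.cons (nat_lit 14) (nat_lit 0) (nat_lit 13) (nat_lit 1) wt1
(.cons (nat_lit 28) (nat_lit 42) (nat_lit 26) (nat_lit 2) wt2
(.cons (nat_lit 42) (nat_lit 28) (nat_lit 39) (nat_lit 3) wt3
(.cons (nat_lit 56) (nat_lit 70) (nat_lit 52) (nat_lit 4) wt4
(.cons (nat_lit 70) (nat_lit 56) (nat_lit 65) (nat_lit 5) wt5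
.nil))))))
def rels : List (List ℕ) := [[0, 0],
[2, 2, 2, 2, 2, 2, 2, 2],
[4, 4],
[3, 3, 3, 4, 2, 4],
[3, 1, 2, 0],
[5, 1, 4, 0]]
def subs : List (List ℕ) := []
noncomputable def chk : ℕ → Bool := rowChk row jrow fget sl cols (nat_lit 32) (nat_lit 32) (nat_lit 16383) (nat_lit 63) (nat_lit 16384) (nat_lit 84) (nat_lit 98) (nat_lit 8191) (nat_lit 6) (nat_lit 63) (nat_lit 5) (nat_lit 31) cl (nat_lit 78) wt6
theorem p0 : allB chk 5 0 = true := by decide +kernel
theorem all_chk : AllLt chk 32 := by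
  have h := AllLt.zero chk
  have h := h.step 32 p0 (by decide +kernel)
  exact h
/-- column `x` of the final table -/
noncomputable def tab (x u : ℕ) : ℕ := ft fget (nat_lit 6) (nat_lit 63) (nat_lit 5) (nat_lit 31) (Nat.mul x (nat_lit 1)) u
theorem enum {G Ω : Type*} [Group G] [MulAction G Ω] (g : ℕ → G) (ω : Ω)
    (hinv : ∀ x, g (icol x) = (g x)⁻¹) (h1 : g 6 = 1)
    (hrels : ∀ R ∈ rels, ev g R = 1) (hsubs : ∀ S ∈ subs, ev g S • ω = ω) :
    ∃ pt : ℕ → Ω, pt 0 = ω ∧ (∀ K : Subgroup G, (∀ x, g x ∈ K) → ∀ v, ∃ k ∈ K, pt v = k • ω) ∧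
      ∀ x, x < 6 → ∀ u, u < 32 → tab x u < 32 ∧ g x • pt u = pt (tab x u) :=
  sound_scaled g ω row jrow fget sl inv icol cols (nat_lit 32) (nat_lit 32) (nat_lit 16383) (nat_lit 63) (nat_lit 16384) (nat_lit 84) (nat_lit 98) (nat_lit 8191) (nat_lit 6) (nat_lit 63) (nat_lit 5) (nat_lit 31) 6 cl (nat_lit 78) wt6 rels subs 14 (nat_lit 1) 6
    (fun _ => Nat.mul_div_cancel _ (by decide)) hinv h1 hrels hsubs
    (by decide +kernel) (by decide +kernel) all_chk
end H69.LAE

namespace H69.LA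
open H70.TM H18.TC Subgroup

noncomputable def rt : RT := ⟨nat_lit 32, nat_lit 5, nat_lit 31,
  (.node (nat_lit 15) (.node (nat_lit 7) (.node (nat_lit 3) (.node (nat_lit 1) (.node (nat_lit 0) (.leaf (nat_lit 0xffbbcdeb38bdab49ca307b9ac5a928398a418820))
(.leaf (nat_lit 0xef3febdab4deb387b9ac9ca3041ccb5246229001)))
(.node (nat_lit 2) (.leaf (nat_lit 0xec17fc4beeb47c56b383dab49ca0f7316941882))
(.leaf (nat_lit 0xd66d59ffd27f78ede12bbd0c88122c1342a01ca3))))
(.node (nat_lit 5) (.node (nat_lit 4) (.leaf (nat_lit 0x5c3beb47cfc4be3dab456b387b993941065a444))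
(.leaf (nat_lit 0xb57597f78e9ffd2bd0c8de12b609b0244070a865)))
(.node (nat_lit 6) (.leaf (nat_lit 0x27c5d0e57b05517944be7347c56b07b52707b126))
(.leaf (nat_lit 0x2cc6fd2439b181527fd21778ede177a221163547)))))
(.node (nat_lit 11) (.node (nat_lit 9) (.node (nat_lit 8) (.leaf (nat_lit 0x895a35077a382f6ffa13ef18fc27343549213968))
(.leaf (nat_lit 0x1749f055170e57b7347c944be3da8ad61ec9c0c9)))
(.node (nat_lit 10) (.leaf (nat_lit 0x1bcb3b1815d24391778e27fd2bd11bc2d8d844ea))
(.leaf (nat_lit 0x68e25382f65077aef18fffa13a1ab84e44e2490b))))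
(.node (nat_lit 13) (.node (nat_lit 12) (.leaf (nat_lit 0x484c02167f10dfdd657bb5517947ce6f1583d20c))
(.leaf (nat_lit 0x568f62fa131f18fc2439a181527e42ebb6bba22d)))
(.node (nat_lit 14) (.leaf (nat_lit 0x5a9078c0856b0434877a302f6ffa7de3f19a564e))
(.leaf (nat_lit 0xcaea8913f170bad0ef0a05e87f40bc60d3a35a6f))))))
(.node (nat_lit 23) (.node (nat_lit 19) (.node (nat_lit 17) (.node (nat_lit 16) (.leaf (nat_lit 0x3012110dfd2167fb5517d657b737928f8f456190))
(.leaf (nat_lit 0x3d95a1f18f2fa13a1815c2439175c4fcae8dadb1)))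
(.node (nat_lit 18) (.leaf (nat_lit 0x41d6a6b0438c085302f64877aef1fff4e95c65d2))
(.leaf (nat_lit 0xaa32b70bad913f105e870ef0ae307e814d64e9f3))))
(.node (nat_lit 21) (.node (nat_lit 20) (.leaf (nat_lit 0x811824ad41320e08967f68dfdd6776ade5e77314))
(.leaf (nat_lit 0x945cd5ef0a45e87f4085e30434874605bf3ebf35)))
(.node (nat_lit 22) (.leaf (nat_lit 0x9c9eece12bad0c8813f160bad0ed40b9fc5e0f56))
(.leaf (nat_lit 0xf438cc2b49a1ec62ce441bdc2cac354023f6f777)))))
(.node (nat_lit 27) (.node (nat_lit 25) (.node (nat_lit 24) (.leaf (nat_lit 0x60a04320e04ad4168dfd8967fb56faceddc97a98))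
(.leaf (nat_lit 0x7365145e875ef0ae3043f4085302c90ebaffceb9)))
(.node (nat_lit 26) (.leaf (nat_lit 0x7ba72ad0c8ce12b60bad813f105ce1dab83f16da))
(.leaf (nat_lit 0xe33d0a1ec6c2b491bdc22ce44aa019585bd8fefb))))
(.node (nat_lit 29) (.node (nat_lit 28) (.leaf (nat_lit 0xc268684e4463dc2cad41aa0e0897ed1f75bb5fdc))
(.leaf (nat_lit 0xde2f4f4a30e39ac5ab4941ec62cc8378b21a83fd)))
(.node (nat_lit 30) (.leaf (nat_lit 0xa1b0963dc284e44aa0e0cad4168fb12fed7d6f9e))
(.leaf (nat_lit 0xbd378e39acf4a3041ec65ab491bc45992a0c87bf))))))),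
  (nat_lit 0x2404c4ad58320f49ca3e7b9bcd6776adcbf1f420),
  (nat_lit 0xd62d49ca307b9ac5a92941cc6290831082100000),
  (nat_lit 0x188621884218842108621086210c421886218821),
  [nat_lit 1, nat_lit 2, nat_lit 3]⟩

theorem okA0 : rt.chkA 1 = true := by decide +kernel
theorem okA1 : rt.chkA 2 = true := by decide +kernel
theorem okA2 : rt.chkA 3 = true := by decide +kernel
theorem okB : rt.chkB = true := by decide +kernel
noncomputable def tb : GT := ⟨rt, List.forall_mem_cons.2 ⟨okA0, List.forall_mem_cons.2 ⟨okA1, List.forall_mem_cons.2 ⟨okA2, fun _ h => absurd h List.not_mem_nil⟩⟩⟩, okB⟩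

theorem hom_chk : homChk tb (nat_lit 0x374788467f52dbee6f59bdab493dcc4a0e520820) 32 LAE.tab = true := by decide +kernel

/-- the group -/
abbrev E : Type := El tb

noncomputable def t : E := El.of tb 1
noncomputable def a : E := El.of tb 2
noncomputable def b : E := El.of tb 3

theorem card : Nat.card E = 32 := El.card tb

theorem eq_top {K : Subgroup E} (h0 : t ∈ K) (h1 : a ∈ K) (h2 : b ∈ K) : K = ⊤ :=
  El.eq_top (List.forall_mem_cons.2 ⟨h0, List.forall_mem_cons.2 ⟨h1, List.forall_mem_cons.2 ⟨h2, fun _ h => absurd h List.not_mem_nil⟩⟩⟩)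

/-- the relations -/
def Rel {G : Type*} [Group G] (t a b : G) : Prop :=
  t * t = 1 ∧
  a * a * a * a * (a * a * a * a) = 1 ∧
  b * b = 1 ∧
  b * a * b = a * a * a ∧
  t * a = a * t ∧
  t * b = b * t

instance {G : Type*} [Group G] [DecidableEq G] (t a b : G) : Decidable (Rel t a b) := by
  unfold Rel; infer_instance

theorem Rel.map {G G' : Type*} [Group G] [Group G'] (f : G →* G') {t a b : G}
    (h : Rel t a b) : Rel (f t) (f a) (f b) := by
  obtain ⟨h0, h1, h2, h3, h4, h5⟩ := h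
  exact ⟨by simpa only [map_mul, map_inv, map_one] using congrArg f h0,
    by simpa only [map_mul, map_inv, map_one] using congrArg f h1,
    by simpa only [map_mul, map_inv, map_one] using congrArg f h2,
    by simpa only [map_mul, map_inv, map_one] using congrArg f h3,
    by simpa only [map_mul, map_inv, map_one] using congrArg f h4,
    by simpa only [map_mul, map_inv, map_one] using congrArg f h5⟩

theorem Rel.of_map {G G' : Type*} [Group G] [Group G'] {f : G →* G'} (hf : Function.Injective f)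
    {t a b : G} (h : Rel (f t) (f a) (f b)) : Rel t a b := by
  obtain ⟨h0, h1, h2, h3, h4, h5⟩ := h
  exact ⟨hf (by simpa only [map_mul, map_inv, map_one] using h0),
    hf (by simpa only [map_mul, map_inv, map_one] using h1),
    hf (by simpa only [map_mul, map_inv, map_one] using h2),
    hf (by simpa only [map_mul, map_inv, map_one] using h3),
    hf (by simpa only [map_mul, map_inv, map_one] using h4),
    hf (by simpa only [map_mul, map_inv, map_one] using h5)⟩

theorem Rel.prod {G G' : Type*} [Group G] [Group G'] {t a b : G} {t' a' b' : G'}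
    (h : Rel t a b) (k : Rel t' a' b') :
    Rel (t, t') (a, a') (b, b') := by
  obtain ⟨h0, h1, h2, h3, h4, h5⟩ := h
  obtain ⟨k0, k1, k2, k3, k4, k5⟩ := k
  exact ⟨Prod.ext h0 k0, Prod.ext h1 k1, Prod.ext h2 k2, Prod.ext h3 k3, Prod.ext h4 k4, Prod.ext h5 k5⟩

theorem Rel.sat {G : Type*} [Group G] {t a b : G} (h : Rel t a b) :
    ∀ R ∈ LAE.rels, ev (lt [t, a, b]) R = 1 := by
  obtain ⟨h0, h1, h2, h3, h4, h5⟩ := h
  exact List.forall_mem_cons.2 ⟨show t * (t * 1) = 1 by
      simpa only [mul_assoc, mul_inv_rev, inv_inv, inv_one, mul_one, one_mul] using mul_inv_eq_one.2 h0,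
    List.forall_mem_cons.2 ⟨show a * (a * (a * (a * (a * (a * (a * (a * 1))))))) = 1 by
      simpa only [mul_assoc, mul_inv_rev, inv_inv, inv_one, mul_one, one_mul] using mul_inv_eq_one.2 h1,
    List.forall_mem_cons.2 ⟨show b * (b * 1) = 1 by
      simpa only [mul_assoc, mul_inv_rev, inv_inv, inv_one, mul_one, one_mul] using mul_inv_eq_one.2 h2,
    List.forall_mem_cons.2 ⟨show b * (a * (b * (a⁻¹ * (a⁻¹ * (a⁻¹ * 1))))) = 1 by
      simpa only [mul_assoc, mul_inv_rev, inv_inv, inv_one, mul_one, one_mul] using mul_inv_eq_one.2 h3,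
    List.forall_mem_cons.2 ⟨show t * (a * (t⁻¹ * (a⁻¹ * 1))) = 1 by
      simpa only [mul_assoc, mul_inv_rev, inv_inv, inv_one, mul_one, one_mul] using mul_inv_eq_one.2 h4,
    List.forall_mem_cons.2 ⟨show t * (b * (t⁻¹ * (b⁻¹ * 1))) = 1 by
      simpa only [mul_assoc, mul_inv_rev, inv_inv, inv_one, mul_one, one_mul] using mul_inv_eq_one.2 h5,
    fun _ h => absurd h List.not_mem_nil⟩⟩⟩⟩⟩⟩

theorem Rel.of_sat {G : Type*} [Group G] {t a b : G}
    (h : ∀ R ∈ LAE.rels, ev (lt [t, a, b]) R = 1) : Rel t a b := by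
  obtain ⟨h0, h⟩ := List.forall_mem_cons.1 h
  obtain ⟨h1, h⟩ := List.forall_mem_cons.1 h
  obtain ⟨h2, h⟩ := List.forall_mem_cons.1 h
  obtain ⟨h3, h⟩ := List.forall_mem_cons.1 h
  obtain ⟨h4, h⟩ := List.forall_mem_cons.1 h
  obtain ⟨h5, h⟩ := List.forall_mem_cons.1 h
  exact ⟨mul_inv_eq_one.1 (by simpa only [mul_assoc, mul_inv_rev, inv_inv, inv_one, mul_one, one_mul] using (show t * (t * 1) = 1 from h0)),
    mul_inv_eq_one.1 (by simpa only [mul_assoc, mul_inv_rev, inv_inv, inv_one, mul_one, one_mul] using (show a * (a * (a * (a * (a * (a * (a * (a * 1))))))) = 1 from h1)),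
    mul_inv_eq_one.1 (by simpa only [mul_assoc, mul_inv_rev, inv_inv, inv_one, mul_one, one_mul] using (show b * (b * 1) = 1 from h2)),
    mul_inv_eq_one.1 (by simpa only [mul_assoc, mul_inv_rev, inv_inv, inv_one, mul_one, one_mul] using (show b * (a * (b * (a⁻¹ * (a⁻¹ * (a⁻¹ * 1))))) = 1 from h3)),
    mul_inv_eq_one.1 (by simpa only [mul_assoc, mul_inv_rev, inv_inv, inv_one, mul_one, one_mul] using (show t * (a * (t⁻¹ * (a⁻¹ * 1))) = 1 from h4)),
    mul_inv_eq_one.1 (by simpa only [mul_assoc, mul_inv_rev, inv_inv, inv_one, mul_one, one_mul] using (show t * (b * (t⁻¹ * (b⁻¹ * 1))) = 1 from h5))⟩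

theorem rel : Rel t a b := by decide +kernel

theorem model {G : Type*} [Group G] {t' a' b' : G} (h : Rel t' a' b') :
    ∃ φ : E →* G, φ t = t' ∧ φ a = a' ∧ φ b = b' := by
  obtain ⟨pt, h0, -, hT⟩ := LAE.enum (lt [t', a', b']) (1 : G)
    (lt_icol _ _ (k := 3) rfl (by decide +kernel)) (lt_ge le_rfl) h.sat
    (fun _ h => absurd h List.not_mem_nil)
  obtain ⟨φ, hφ⟩ := exists_hom tb (l := [t', a', b']) rfl h0 hT hom_chk
  exact ⟨φ, by simpa only [List.cons.injEq, and_true] using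
    (show [φ t, φ a, φ b] = [t', a', b'] from hφ)⟩

end H69.LA
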