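import Mathlib
import Cfsg.Agent.Base
import Cfsg.Agent.Lib.M12C.Tab

/-! the group 2 × Hol(Z8) (helper69; generated) -/

set_option autoImplicit false
set_option maxRecDepth 100000

namespace H69.LBE
open H54 (Tr force band)
open H18.TC
noncomputable def T_0 : Tr := (.node (nat_lit 3) (.node (nat_lit 1) (.node (nat_lit 0) (.leaf (nat_lit 0x1100000d4ca69652c331679878ce07fe047e029f00066000017340bfa050d229e901ff089a80cfa04fd003b8000021fe11ff0e3687bb52ed6d06c09bb053d800aa00000eb687fb415fe0bff6137121bc1aee0ef7001100000dae06ef02b38955c476e406ff04fc025e00066000016398adcc4ce82574017f885d40af205f900088000028ec15f6073b83fdc10f00479007f807fc00000000093d045e818f60b7b03be00df404fc017e)) (.leaf (nat_lit 0xdef86cfc38ab1c159a6ba88d837329af9400aa0000392b1cb58a9f855fc3e2e3a778aecc58e600110000150b2a6d9222d9176d22ae3afc1ef38f59c00ee0000157e8aff46cb438da442c295645ad02ee8002a800006eb439da127e897f486b67e5c13b48a3a4006600006aaeb5775d0bceade107e92d7c46d423ea0000000002cfc13fe0c3105d8932c0b9610abd04be8000000000cb10678820fc0dfe5fb194d901ef60cfb)))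 (.node (nat_lit 2) (.leaf (nat_lit 0x60f22df919270c538c8989e4d17b98b3cc0000000019a70cf3854f227f920a79714052e826f4001980001b7a2da5170a938b4843f24e53123a88bd400ee00004a6fa577defaaf55551aca5be930c09ae0002a80001a4aeced765ea333519ff4d45d68b0b378400000000103d873ec3ef41bfa50ed1ed583cc41ae20000000018ea8c65462abb0b5dcebcc1fb6231b038c004400007a2abcd5494be495f23fd91b6ca2c851e4)) (.leaf (nat_lit 0x138a699d37da4bfb253a9a98f64db5a5fac00aa00005d25aeb2d6d90b7c85c7b365459cd8d0ec002a8000034ee18f70b7b05fd9429c79ca0db6877b400aa000060242f7217796bccb71e92fbdd82dcc3ee002a80001f892ffc9276993f4ca5ee544f2937943bc00ee0000347c1a7e0ea9477ca6d689ab30d8e06df0000000000ec9478ca2d3c15fe0b6a0e5522cb895bc4004400005026a7b34809e3f4f30258efe079e43e72)))) (.node (nat_lit 5) (.node (nat_lit 4) (.leaf (nat_lit 0x2200001148e8cc74322a0f1512e087f3426621d300044000053b929fc95488a9445279a8bad479aa64d00000000074e836f41cb98d7cde08ca26d1c270d3380000000055a22b3108ce443f223b790bd08a9e41cf001100001008a81c545a3a371cfbe87bf13e681fd40004400006b3ab53d5e18cee4669f634bc1b0a2d751000000001da8cec4675bab9fd5d4e2e6ee74a93974800aa00004b35a55ac91de49ef257aa3f1c9aa64c53))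 (.leaf (nat_lit 0x1100000ce8267c12f219750cb7d25ae63f6e1f570002200006cf5371a9bc84dec26c70b6d95adbad7dd003300001c484dfc271b5383a9c9cce463732f3a378002200004d3026f80a0c84f6426f517d0c97be4cdf003b800018bdcc6ee66b6331b19588c8c5652431f2000ee00007977bcfbde9d6f86b7b62bd719f292fcc9002a80000e6e271f137f81c3c0f5daac443a251db280044000067b6347b186dcc4ee4963a43c92396944b))) (.node (nat_lit 6) (.leaf (nat_lit 0x11000017cc6bfe35c30add856b80b4c1642a327500000000080323ef91fec0fae07f20be709faaaf8d5000000000f2cc75e63c329d394f4c4b1c03bab1cf58004400005db0ae7857ac6bc63306197f9d27ae9257003b80000c38662c3332099504d6ca63e8436c21560004400004fb3a7f9d5e80b2c04ef4273814bb2a459002a8000068d232e918740c7a1ba84a0e21aad0df6800aa000058202cf007dce3fe729f2103a484b644db)) (.leaf (nat_lit 0x1689eafcf59a6abb356494b64858a22b71000aa0000342819b40c99865cc5aa43f725058a8145001100001c0a4e1d26fa8b7745f492dcce77a33c71800aa000031a618930b9a05dd02f699852d1d8e8c47002a800015ab6aadb546caa76557accb5457202c30000cc0000412e1ff7108b085d864aa3dd5501828341003b80001d7bcecde76eebc575ecaaefda79213bb0800cc000046ac227611cb88adc482fa4d5d17868f43)))))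
noncomputable def J_0 : Tr := (.node (nat_lit 3) (.node (nat_lit 1) (.node (nat_lit 0) (.leaf (nat_lit 0x80020020010000000000001000000600200000000080010010018000002000000000000200000000060020020000000000001000000000200000000020020010000000000000000000200200000000080000000008000002000000400400200000000000000000000000000000)) (.leaf (nat_lit 0x2000000000000200080080000000028008008000001000000400000000200000020008008004000000800800c0000010000000000001000000000300100100000000000008000000004000000600200000000080000000008000000000000000200200000000080000010000000001001))) (.node (nat_lit 2) (.leaf (nat_lit 0x2000000000000000080080000000020000004000000000400400000100000000070010000000004000800800c00200000000080000010000000005001001000c0000000018000000001000000400200000040040000000000000002000000800200200000000000000000024004000003)) (.leaf (nat_lit 0x2000000800000200080080000000058008008006000000000c00000000140040040000010000002000000000a002002003000c000001000000000300100100040000000018002002003000000400200200000040000000008000002000000000200200000000100000000004004002000))))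 (.node (nat_lit 5) (.node (nat_lit 4) (.leaf (nat_lit 0x6000800800000200300000000000030000000009001000800000000000080000020000000002002000000000800000100000040010010000000006000001800a0020010000000000004000800000500100000000000000000000002000000800200200000000020020020018004000000)) (.leaf (nat_lit 0x4000000000a0020010000000002000000001000200080080040000008008000006002000000000200000000040000000008002002001000400400600000000040040000020002002003000800000e00200000040000000014004004001000000000200000000080000010014004002000))) (.node (nat_lit 6) (.leaf (nat_lit 0x4000000000a0020000020000000001000000400000100040040000000008000002000000800200200000000140000000014004002000000400400600000000000040030000000000003000000400b0010008000000000001400400400000180000020000000006002002000800c000001)) (.leaf (nat_lit 0x2000000800000000080080000000028008008000001001000000000000180000080008008000008000000000200200200180000040000000000005001001000c0000000008000001001000000800000000100000010010018004000000001000000800000040040000030000000004000)))))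
noncomputable def F_0 : Tr := (.node (nat_lit 3) (.node (nat_lit 1) (.node (nat_lit 0) (.leaf (nat_lit 0xefae78ffef7caeaa689e69648e2860df6d74cf2c70beeb6c51349140f38d30b29f79d71b6996175951440c22481c6001)) (.leaf (nat_lit 0xefae78ffef7caeaa689e69648e2860df6d74cf2c70beeb6c51349140f38d30b29f79d71b6996175951440c22481c6001))) (.node (nat_lit 2) (.leaf (nat_lit 0xdf6c74aea968fbdfd85df75665a73ceb9ecd31448b38f47826ed48c33b47cafb058a91249e10e68e079b0554d000a182)) (.leaf (nat_lit 0xd77daca6baa0ffe77c697f5b59e655efa4b83cce502d338ac89c6d22ebf4cf01a61658448a3a279027dc6015113401c3)))) (.node (nat_lit 5) (.node (nat_lit 4) (.leaf (nat_lit 0xcb3baf9a78a379f69cfbf5d8f3d55b4d43d1ebb30de39290db7274b351f0c46b6aac5a20a439250a174165648038b204)) (.leaf (nat_lit 0xcb3baf9a78a379f69cfbf5d8f3d55b4d43d1ebb30de39290db7274b351f0c46b6aac5a20a439250a174165648038b204))) (.node (nat_lit 6) (.leaf (nat_lit 0xc2fb7392386771b65ef185bff95f5f450393e0d2fbe8ae54b34237d87d721b1ba0a04aea0e998296205d6970123cc245))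 (.leaf (nat_lit 0xc2fb7392386771b65ef185bff95f5f450393e0d2fbe8ae54b34237d87d721b1ba0a04aea0e998296205d6970123cc245)))))
noncomputable def T : Tr := T_0
noncomputable def J : Tr := J_0
noncomputable def F : Tr := F_0
noncomputable def row (u : ℕ) : ℕ := Nat.land (Nat.shiftRight (force (Nat.shiftRight u (nat_lit 3)) T.get) (Nat.mul (Nat.land u (nat_lit 7)) (nat_lit 170))) (nat_lit 0x3ffffffffffffffffffffffffffffffffffffffffff)
noncomputable def jrow (u : ℕ) : ℕ := Nat.land (Nat.shiftRight (force (Nat.shiftRight u (nat_lit 3)) J.get) (Nat.mul (Nat.land u (nat_lit 7)) (nat_lit 117))) (nat_lit 0x1fffffffffffffffffffffffffffff)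
noncomputable def fget (k fx : ℕ) : ℕ := F.get (Nat.add k fx)
noncomputable def wt0 : LT := (.node (nat_lit 1) (.node (nat_lit 0) (.leaf 1 0 [nat_lit 17])
(.leaf 9 1 [nat_lit 51, nat_lit 0, nat_lit 34]))
(.node (nat_lit 3) (.node (nat_lit 2) (.leaf 11 1 [nat_lit 85, nat_lit 0, nat_lit 68])
(.leaf 19 1 [nat_lit 119, nat_lit 0, nat_lit 102]))
(.leaf 0 0 [])))
noncomputable def wt1 : LT := (.node (nat_lit 0) (.leaf 9 3 [nat_lit 34, nat_lit 17, nat_lit 51])
(.node (nat_lit 1) (.leaf 19 3 [nat_lit 102, nat_lit 17, nat_lit 119])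
(.node (nat_lit 2) (.leaf 11 3 [nat_lit 68, nat_lit 17, nat_lit 85])
(.leaf 0 0 []))))
noncomputable def wt2 : LT := (.node (nat_lit 1) (.node (nat_lit 0) (.leaf 9 2 [nat_lit 0, nat_lit 34, nat_lit 17])
(.leaf 15 2 [nat_lit 119, nat_lit 34, nat_lit 34, nat_lit 34, nat_lit 34, nat_lit 34, nat_lit 119]))
(.node (nat_lit 2) (.leaf 7 2 [nat_lit 85, nat_lit 34, nat_lit 34, nat_lit 34, nat_lit 85])
(.leaf 0 0 [])))
noncomputable def wt3 : LT := (.node (nat_lit 1) (.node (nat_lit 0) (.leaf 9 0 [nat_lit 17, nat_lit 51, nat_lit 0])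
(.leaf 7 5 [nat_lit 34, nat_lit 85, nat_lit 51, nat_lit 85, nat_lit 34]))
(.node (nat_lit 3) (.node (nat_lit 2) (.leaf 7 0 [nat_lit 85, nat_lit 51, nat_lit 85, nat_lit 34, nat_lit 34])
(.leaf 7 4 [nat_lit 34, nat_lit 34, nat_lit 85, nat_lit 51, nat_lit 85]))
(.node (nat_lit 6) (.node (nat_lit 4) (.leaf 15 6 [nat_lit 34, nat_lit 34, nat_lit 119, nat_lit 51, nat_lit 119, nat_lit 34, nat_lit 34])
(.node (nat_lit 5) (.leaf 15 4 [nat_lit 34, nat_lit 34, nat_lit 34, nat_lit 34, nat_lit 119, nat_lit 51, nat_lit 119])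
(.leaf 15 0 [nat_lit 119, nat_lit 51, nat_lit 119, nat_lit 34, nat_lit 34, nat_lit 34, nat_lit 34])))
(.leaf 0 0 []))))
noncomputable def wt4 : LT := (.node (nat_lit 0) (.leaf 11 2 [nat_lit 0, nat_lit 68, nat_lit 17])
(.node (nat_lit 1) (.leaf 5 0 [nat_lit 85])
(.node (nat_lit 2) (.leaf 17 2 [nat_lit 102, nat_lit 68, nat_lit 119])
(.node (nat_lit 3) (.leaf 7 3 [nat_lit 34, nat_lit 34, nat_lit 34, nat_lit 85, nat_lit 51])
(.leaf 0 0 [])))))
noncomputable def wt5 : LT := (.node (nat_lit 0) (.leaf 17 0 [nat_lit 119, nat_lit 85, nat_lit 102])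
(.leaf 0 0 []))
noncomputable def wt6 : LT := (.node (nat_lit 1) (.node (nat_lit 0) (.leaf 19 2 [nat_lit 0, nat_lit 102, nat_lit 17])
(.leaf 17 1 [nat_lit 85, nat_lit 102, nat_lit 68]))
(.node (nat_lit 2) (.leaf 13 0 [nat_lit 119])
(.node (nat_lit 3) (.leaf 15 3 [nat_lit 34, nat_lit 34, nat_lit 34, nat_lit 34, nat_lit 34, nat_lit 119, nat_lit 51])
(.node (nat_lit 4) (.leaf 15 1 [nat_lit 51, nat_lit 119, nat_lit 34, nat_lit 34, nat_lit 34, nat_lit 34, nat_lit 34])
(.leaf 0 0 [])))))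
noncomputable def wt7 : LT := (.node (nat_lit 0) (.leaf 19 0 [nat_lit 17, nat_lit 119, nat_lit 0])
(.leaf 0 0 []))
noncomputable def wt8 : LT := (.leaf 0 0 [])
noncomputable def sl : List (ℕ × ℕ × List ℕ × List ℕ) := []
/-- the inverse column -/
noncomputable def icol (x : ℕ) : ℕ := List.getD [nat_lit 1, nat_lit 0, nat_lit 3, nat_lit 2, nat_lit 5, nat_lit 4, nat_lit 7, nat_lit 6] x x
noncomputable def inv (x : ℕ) : ℕ := Nat.mul (icol (Nat.div x (nat_lit 17))) (nat_lit 17)
def cols : List ℕ := [nat_lit 136, nat_lit 0, nat_lit 17, nat_lit 34, nat_lit 51, nat_lit 68, nat_lit 85, nat_lit 102, nat_lit 119]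
noncomputable def cl : CL := (.cons (nat_lit 0) (nat_lit 17) (nat_lit 0) (nat_lit 0) wt0
(.cons (nat_lit 17) (nat_lit 0) (nat_lit 13) (nat_lit 1) wt1
(.cons (nat_lit 34) (nat_lit 51) (nat_lit 26) (nat_lit 2) wt2
(.cons (nat_lit 51) (nat_lit 34) (nat_lit 39) (nat_lit 3) wt3
(.cons (nat_lit 68) (nat_lit 85) (nat_lit 52) (nat_lit 4) wt4
(.cons (nat_lit 85) (nat_lit 68) (nat_lit 65) (nat_lit 5) wt5
(.cons (nat_lit 102) (nat_lit 119) (nat_lit 78) (nat_lit 6) wt6
(.cons (nat_lit 119) (nat_lit 102) (nat_lit 91) (nat_lit 7) wt7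
.nil))))))))
def rels : List (List ℕ) := [[0, 0],
[2, 2, 2, 2, 2, 2, 2, 2],
[4, 4],
[3, 3, 3, 4, 2, 4],
[3, 1, 2, 0],
[5, 1, 4, 0],
[6, 6],
[3, 3, 3, 3, 3, 6, 2, 6],
[5, 7, 4, 6],
[7, 1, 6, 0]]
def subs : List (List ℕ) := []
noncomputable def chk : ℕ → Bool := rowChk row jrow fget sl cols (nat_lit 64) (nat_lit 64) (nat_lit 131071) (nat_lit 127) (nat_lit 131072) (nat_lit 136) (nat_lit 153) (nat_lit 8191) (nat_lit 6) (nat_lit 63) (nat_lit 6) (nat_lit 63) cl (nat_lit 104) wt8
theorem p0 : allB chk 6 0 = true := by decide +kernel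
theorem all_chk : AllLt chk 64 := by
  have h := AllLt.zero chk
  have h := h.step 64 p0 (by decide +kernel)
  exact h
/-- column `x` of the final table -/
noncomputable def tab (x u : ℕ) : ℕ := ft fget (nat_lit 6) (nat_lit 63) (nat_lit 6) (nat_lit 63) (Nat.mul x (nat_lit 1)) u
theorem enum {G Ω : Type*} [Group G] [MulAction G Ω] (g : ℕ → G) (ω : Ω)
    (hinv : ∀ x, g (icol x) = (g x)⁻¹) (h1 : g 8 = 1)
    (hrels : ∀ R ∈ rels, ev g R = 1) (hsubs : ∀ S ∈ subs, ev g S • ω = ω) :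
    ∃ pt : ℕ → Ω, pt 0 = ω ∧ (∀ K : Subgroup G, (∀ x, g x ∈ K) → ∀ v, ∃ k ∈ K, pt v = k • ω) ∧
      ∀ x, x < 8 → ∀ u, u < 64 → tab x u < 64 ∧ g x • pt u = pt (tab x u) :=
  sound_scaled g ω row jrow fget sl inv icol cols (nat_lit 64) (nat_lit 64) (nat_lit 131071) (nat_lit 127) (nat_lit 131072) (nat_lit 136) (nat_lit 153) (nat_lit 8191) (nat_lit 6) (nat_lit 63) (nat_lit 6) (nat_lit 63) 7 cl (nat_lit 104) wt8 rels subs 17 (nat_lit 1) 8
    (fun _ => Nat.mul_div_cancel _ (by decide)) hinv h1 hrels hsubs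
    (by decide +kernel) (by decide +kernel) all_chk
end H69.LBE

namespace H69.LB
open H70.TM H18.TC Subgroup

noncomputable def rt : RT := ⟨nat_lit 64, nat_lit 6, nat_lit 63,
  (.node (nat_lit 31) (.node (nat_lit 15) (.node (nat_lit 7) (.node (nat_lit 3) (.node (nat_lit 1) (.node (nat_lit 0) (.leaf (nat_lit 0xffef7cefae78df6d74cf2c70beeb6caeaa689e69648e28607de75c6da6585d65544d24503ce34c2ca2481c61440c2040))
(.leaf (nat_lit 0xf7cffecb1c2fbadb2babbeb9e37db5d3379d71b699617595529a279a59238a181f34c2ca2484d24503ce103087185001)))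
(.node (nat_lit 2) (.leaf (nat_lit 0x5000afe89a0fa3187a7d75b57c60311eef9eb63f44b8df5cf2c31b49accbeeb2a86796489f59c6995d44d138d2c8142))
(.leaf (nat_lit 0xe39bf0964fbf9e1a6689a67cf5c59e6d7d53df4efa433d8e46c36eaf2c4aaad20ba077e31607445180954813cc009183))))
(.node (nat_lit 5) (.node (nat_lit 4) (.leaf (nat_lit 0xdf3baa9258a7fe0a1ff9969773d55d53c4f5e11ebb3f93b6d0db2f2f1c89c08b6ba469858e17836c261605240030a1c4))
(.leaf (nat_lit 0xa050f5d6d5f180c47bfa2683e8c61e9cb0c6d26b32fbacabbe7ad8fd12e37d7359c6995d486796489f34b21344e085)))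
(.node (nat_lit 6) (.leaf (nat_lit 0xbf0e39699f3d71679b5e593efe78699a2b0dbabcb12aab482f54f7d3be90cf6391744518095a077e316030025204f0c6))
(.leaf (nat_lit 0xbaadf365a5dcf55754f249629ff8287fe36cbcbc7227022dad3d7847aecfe4edb47836c2616a469858e100c281490107)))))
(.node (nat_lit 11) (.node (nat_lit 9) (.node (nat_lit 8) (.leaf (nat_lit 0x164099079db5412453ec0c2db0a30b372fe6a238879e0f86a7d6dd61711c57c0dedfa3f4e33bb126bbea8657d6694388))
(.leaf (nat_lit 0x1a30d8e13d0ee50052d6f36b23028032c97e9211661ff9e989af195826c4f5c797db7efacd1b6ecb1a8ba1f81d5153c9)))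
(.node (nat_lit 10) (.leaf (nat_lit 0x1c5102df5476ccf4814eeb0bb6a24c00d9229608df1a7fe8f995da55850373d77c3b8ebbe7422fc72c2ba6685e6d640a))
(.leaf (nat_lit 0x82655b3f4401eb7ef6e09aca031bb2b6f1a1f87fe89298df9435bc13d75979851ae53cd23b5c0da8c22c9c589c09744b))))
(.node (nat_lit 13) (.node (nat_lit 12) (.leaf (nat_lit 0x9e2717ebbcf7e0e4d1e71caabaf20d2f0a29fdf92517e82199d7bd519682f1559bd41d0f436b00ac92ad1878c311848c))
(.leaf (nat_lit 0xfa9f1ed0fe3a075e7342b26fc40b30a8a846825a3f8a67e31d60d569df576d4604ed1d8e4b7c8bb4832e1679027194cd)))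
(.node (nat_lit 14) (.leaf (nat_lit 0x99164030b6c28c2cdc81e76d504914fbf5b7585c4715f037bf9a88e21e783e1a9bb126bbeadfa3f4e3359a52195f20e))
(.leaf (nat_lit 0xd81a3bcdac8c0a00cb384f43b94014b56bc65609b13d71e5e5fa4845987fe7a62b6ecb1a8bdb7efacd17545687e024f))))))
(.node (nat_lit 23) (.node (nat_lit 19) (.node (nat_lit 17) (.node (nat_lit 16) (.leaf (nat_lit 0x1021c5bac2eda89300377d51db33d20536576956140dcf5df248a58237c69ffa3e22fc72c2b3b8ebbe7479b5a99a1290))
(.leaf (nat_lit 0x55b82626b280c6ecadbcfd1007adfbdb80d6f04f5d65e61468687e1ffa24a637e5c0da8c22ce53cd23b57025e71622d1)))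
(.node (nat_lit 18) (.leaf (nat_lit 0x7179e2c72aaebc834bc3aef3df839347975ef5465a0bc5566e8a7f7e4945fa0866b00ac92add41d0f4360c46061e3312))
(.leaf (nat_lit 0xf1efa9ac9bf102cc2a2b43f8e81d79cd058355a77d5db5181211a0968fe299f8c7c8bb4832eed1d8e4b709c6459e4353))))
(.node (nat_lit 21) (.node (nat_lit 20) (.leaf (nat_lit 0x3b422b1668c6927961fc26d80d971a5bd076e52e13eb5411ec0b7032f371b0a2f2fa8887829f1d5c455edcfcee26a7d4))
(.leaf (nat_lit 0x3fa2711be8698c77e8943f1679811475ae344d0cd2dcee41d6facd2aa32e23002c9e4166fe271909bf57dbb46dc8b815)))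
(.node (nat_lit 22) (.leaf (nat_lit 0x43b2b21e28281469a99045d57420db799dd1d4fe41e36cd24ee2ec27002fb6a30dfe58df9fef5a61473c3bad08c6b856))
(.leaf (nat_lit 0x4522cc8211df9a416719558451b6427033d0d373b64c1ebbe092abb88b4d031caf8fefe8a6563cf5d79ae73d70aac897)))))
(.node (nat_lit 27) (.node (nat_lit 25) (.node (nat_lit 24) (.leaf (nat_lit 0x48f3099e97e18851c6a1c7945970840ddeb3ece411077e13e71ab220a2c0baf37083f925fa657d65af1bd74dacaed8d8))
(.leaf (nat_lit 0x4ce348f86963a629c587c0da61e5dc096d383f54b347a07942bbc9b0ca8bc40c0a7e0a3f98751577d6c4ef6df2b6e919)))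
(.node (nat_lit 26) (.leaf (nat_lit 0xd76b2d887905a3efe381711909df3d615477413079d3b4b33cbb8a340c2bc8ca899a1a677c66d679c503e8ee3122f95a))
(.leaf (nat_lit 0xd91b4b8df14797f9209d850211af5955c48ecc1df5ed33f4e8c22a02eb32349af18a9f868685def0359de10e6f2b099b))))
(.node (nat_lit 29) (.node (nat_lit 28) (.leaf (nat_lit 0xeb8c6fa3fa7e81f86599df5ef1551669be7b073d0f390d77db0c80aab2482acbad1851e29230c211765845348b34c9dc))
(.leaf (nat_lit 0xe75c2c985fe41a9fa28db0bd6437bc5d8d813bb4f8cf44504ad008c8dbeaacb28c95f8601e769459511c3f7e89bb1a1d)))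
(.node (nat_lit 30) (.leaf (nat_lit 0xcd3a8d7e39e51e88be15461c684757f02392dbad77e51d0f04832dc6cbb02eb2409268211bf65b5560fd438ecabf2a5e))
(.leaf (nat_lit 0x22b3b409b60365c696f459a31a49e587f02dc0cbcdc6c28bc81db94b84fad5047bf1d5c455efa8887829b89ab73f351f)))))))
(.node (nat_lit 47) (.node (nat_lit 39) (.node (nat_lit 35) (.node (nat_lit 33) (.node (nat_lit 32) (.leaf (nat_lit 0x2713fa0fc59e60451d686fa1a631dfa25beb34aa8cb88c00b38d134334b73b907571909bf579e4166fe2b722f6ed1560))
(.leaf (nat_lit 0x2b243b11755d0836de6478a0a051a6a64b8bb09c00beda8c3774753f9078db3493f5a61473cfe58df9fe231aceeb45a1)))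
(.node (nat_lit 34) (.leaf (nat_lit 0x2cc4525561146d909c0e08477e69059c624aaee22d340c72bcf434dced9307aef863cf5d79a8fefe8a65c2ab39cf55e2))
(.leaf (nat_lit 0x30948f71e5165c2103767a5f8621471a8c6ac8828b02ebcdc3acfb390441df84f957d65af1b83f925fa6b2bb75d36623))))
(.node (nat_lit 37) (.node (nat_lit 36) (.leaf (nat_lit 0x3484cef036987977025be1a58e98a7161aef26c32a2f10302b4e0fd52cd1e81e5051577d6c47e0a3f987cadbbbdb7664))
(.leaf (nat_lit 0xb2dd765c464277cf585621e4168fbf8e02ee28d030af232a251dd04c1e74ed2ccf6d679c5039a1a677c6c48bfa3b86a5)))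
(.node (nat_lit 38) (.leaf (nat_lit 0xb4bd916140846bd6557237c51e5fe4827308a80bacc8d26bc523b3077d7b4cfd3a5def0359d8a9f86868bcac384396e6))
(.leaf (nat_lit 0xc6feb877d7bc55459a6e8fe9fa07e1966c3202aac920ab2eb79ec1cf43ce435df60c21176581851e29232cd3114d2727)))))
(.node (nat_lit 43) (.node (nat_lit 41) (.node (nat_lit 40) (.leaf (nat_lit 0xc2ce756c2f590def1762617f906a7e8a3b4023236faab2ca33604eed3e33d1141269459511c95f8601e726ec4fdfa768))
(.leaf (nat_lit 0xa8dcd351871a11d5fc09f8e7947a22f8520cb71b2ec0bac900e4b6eb5df94743c165b5560fd9268211bf2afc90e3b7a9)))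
(.node (nat_lit 42) (.leaf (nat_lit 0x7c75043b6491d3a3f7048b4c2ebc49b801639a7821a06925fc261b71559d0d96bd439e13d7b2b0bcdb32fa2a7c5decea))
(.leaf (nat_lit 0x85f5944113d2ef8e8edca2c9332bf122e1e08869e99681669045570dc79a7426d9cf5e41d93aacc00b4dfe3fbd63cd2b))))
(.node (nat_lit 45) (.node (nat_lit 44) (.leaf (nat_lit 0x8a85dd450dfb493cf93cb2aec8c36ac09807864a67f9f98519511665e73c51b083eb43b6078c6b22d02f8ff958f5ad6c))
(.leaf (nat_lit 0x8e561a4b33933c1d35e8ca8834902bb319dfa45f86fe1887a1c51e0bc0fd59711de3b411df9bf228bbb082499565bdad)))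
(.node (nat_lit 46) (.leaf (nat_lit 0x93f67d4f8d79391dbbd0dbecc082edcabfa51a2985823a6787c6835db09561e71604f4b3e9000932ac4a7e81d4744dee))
(.leaf (nat_lit 0x96769cd774f3db43ba46cb8daadac8c4b8a41fe7e3845a3f817644f1461609df55490079ecf30a030c899a919b783e2f))))))
(.node (nat_lit 55) (.node (nat_lit 51) (.node (nat_lit 49) (.node (nat_lit 48) (.leaf (nat_lit 0x9866c3d8e07447b4384ad200acbc8abcc8c57ff860a479649d8094f5655e11a65c3f3df54fa26abac3718bea17f1de70))
(.leaf (nat_lit 0xa20755e41ed0d73dcfdb00322acaae26d9bf1691e27e41be8dbf427845d4643f1844e4f8d122c836facc9619da59ceb1)))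
(.node (nat_lit 50) (.leaf (nat_lit 0xa61796cd2e8f4f9e103aa33124dc2f2887e78e81be9a51e2154718743f1b6845c2d36d77441aedb2e2c0920fd957def2))
(.leaf (nat_lit 0x5047c722d30baf126e00ed92474e8fdc10986dc55674365af458e69e08681a497f2b0bcdb32439e13d7bf177be8a9ab3))))
(.node (nat_lit 53) (.node (nat_lit 52) (.leaf (nat_lit 0x59485f28b24ccafc48b9044f4bbe3a3b71155c371e69d09b6478221a7a65a059a4aacc00b4dcf5e41d93f58f3f8feaf4))
(.leaf (nat_lit 0x5dd8a82cabb230dab0251437ed24f3e4f54459979cf146c20e01e19299fe7e6146c6b22d02feb43b607863d6a3fe5b35)))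
(.node (nat_lit 54) (.leaf (nat_lit 0x61a8e532a20d240aecc52cce4cf074d7a714782f03f565c47677e917e1bf8621e8bf228bbb0e3b411df95596e0926b76))
(.leaf (nat_lit 0x67d93f36fb3020bb72ad3e35e4e476ef4f1a0d76c255879c5be9468a61608e99e100932ac4a04f4b3e9051d11fa07bb7)))))
(.node (nat_lit 59) (.node (nat_lit 57) (.node (nat_lit 56) (.leaf (nat_lit 0x69c967b2e36ab6b2312f5dd3cf6d0ee915d913c51858277d562907f9f8e1168fe030a030c89490079ecf6de0e6a46bf8))
(.leaf (nat_lit 0x6c3986b4802b2f22af336381d11ed0e1260253d59578469972315ffe18291e592726abac3713f3df54fa5fc762fa8c39)))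
(.node (nat_lit 58) (.leaf (nat_lit 0x755a20c00c8ab2ab89b7907b435cf73f66fd09e1175190fc626fc5a4789f906fa32c836facc44e4f8d12696725867c7a))
(.leaf (nat_lit 0x796a61a8cc49370bca2334ba3d3e7840e51c61d0fc6da11709f9e3a06fa6947885aedb2e2c0d36d77441655f6483fcbb))))
(.node (nat_lit 61) (.node (nat_lit 60) (.leaf (nat_lit 0xd01ac08601a67e58ff1d65436d4698f4440f478d8ed52efadca24bbed22c332c6e1629e9a2409771e759cf94eac0dfbc))
(.leaf (nat_lit 0xef7caea67a228668247de71d5d66d5654cfa4b9450d8f4f83aac4cc0b2ad24dbc81e31be9451180fc682d3506bb00ffd)))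
(.node (nat_lit 62) (.leaf (nat_lit 0xac0d015950db51a63d12180699f963fc72892efb48b0ccb1b903d1e363b54bbeb709771e7591629e9a24ab0373e53f3e))
(.leaf (nat_lit 0xcaeef779c75759b5595299e88a19a091fab13302cab4936f233e92e514363d3e0e1180fc6821e31be945aec034d41f7f)))))))),
  (nat_lit 0x17e0bc3bae514f63d0cc8c702cdb492aa7e89e69618e2920a5475c6da5985d955edd2e34d7bb8cbebb321c6fc40fd040),
  (nat_lit 0xdf3baa9248a286081f7d96575d65555144d34914503cf38e38d34c2cb2892482081c61851451030c2082041040000000),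
  (nat_lit 0x1041041031020840840840c40821021021030840821021030840c21020840840c20840840c20840840c21030840c2041),
  [nat_lit 1, nat_lit 2, nat_lit 3, nat_lit 4]⟩

theorem okA0 : rt.chkA 1 = true := by decide +kernel
theorem okA1 : rt.chkA 2 = true := by decide +kernel
theorem okA2 : rt.chkA 3 = true := by decide +kernel
theorem okA3 : rt.chkA 4 = true := by decide +kernel
theorem okB : rt.chkB = true := by decide +kernel
noncomputable def tb : GT := ⟨rt, List.forall_mem_cons.2 ⟨okA0, List.forall_mem_cons.2 ⟨okA1, List.forall_mem_cons.2 ⟨okA2, List.forall_mem_cons.2 ⟨okA3, fun _ h => absurd h List.not_mem_nil⟩⟩⟩⟩, okB⟩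

theorem hom_chk : homChk tb (nat_lit 0x1f30e763ff996bd71ff0defa38fe51538d37d76c32c6fbadb28ae9aa49a58e286079d6d75954d240c2ca248185102040) 64 LBE.tab = true := by decide +kernel

/-- the group -/
abbrev E : Type := El tb

noncomputable def t : E := El.of tb 1
noncomputable def a : E := El.of tb 2
noncomputable def b : E := El.of tb 3
noncomputable def f : E := El.of tb 4

theorem card : Nat.card E = 64 := El.card tb

theorem eq_top {K : Subgroup E} (h0 : t ∈ K) (h1 : a ∈ K) (h2 : b ∈ K) (h3 : f ∈ K) : K = ⊤ :=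
  El.eq_top (List.forall_mem_cons.2 ⟨h0, List.forall_mem_cons.2 ⟨h1, List.forall_mem_cons.2 ⟨h2, List.forall_mem_cons.2 ⟨h3, fun _ h => absurd h List.not_mem_nil⟩⟩⟩⟩)

/-- the relations -/
def Rel {G : Type*} [Group G] (t a b f : G) : Prop :=
  t * t = 1 ∧
  a * a * a * a * (a * a * a * a) = 1 ∧
  b * b = 1 ∧
  b * a * b = a * a * a ∧
  t * a = a * t ∧
  t * b = b * t ∧
  f * f = 1 ∧
  f * a * f = a * a * a * a * a ∧
  f * b = b * f ∧
  t * f = f * t

instance {G : Type*} [Group G] [DecidableEq G] (t a b f : G) : Decidable (Rel t a b f) := by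
  unfold Rel; infer_instance

theorem Rel.map {G G' : Type*} [Group G] [Group G'] (ψ : G →* G') {t a b f : G}
    (h : Rel t a b f) : Rel (ψ t) (ψ a) (ψ b) (ψ f) := by
  obtain ⟨h0, h1, h2, h3, h4, h5, h6, h7, h8, h9⟩ := h
  exact ⟨by simpa only [map_mul, map_inv, map_one] using congrArg ψ h0,
    by simpa only [map_mul, map_inv, map_one] using congrArg ψ h1,
    by simpa only [map_mul, map_inv, map_one] using congrArg ψ h2,
    by simpa only [map_mul, map_inv, map_one] using congrArg ψ h3,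
    by simpa only [map_mul, map_inv, map_one] using congrArg ψ h4,
    by simpa only [map_mul, map_inv, map_one] using congrArg ψ h5,
    by simpa only [map_mul, map_inv, map_one] using congrArg ψ h6,
    by simpa only [map_mul, map_inv, map_one] using congrArg ψ h7,
    by simpa only [map_mul, map_inv, map_one] using congrArg ψ h8,
    by simpa only [map_mul, map_inv, map_one] using congrArg ψ h9⟩

theorem Rel.of_map {G G' : Type*} [Group G] [Group G'] {ψ : G →* G'} (hψ : Function.Injective ψ)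
    {t a b f : G} (h : Rel (ψ t) (ψ a) (ψ b) (ψ f)) : Rel t a b f := by
  obtain ⟨h0, h1, h2, h3, h4, h5, h6, h7, h8, h9⟩ := h
  exact ⟨hψ (by simpa only [map_mul, map_inv, map_one] using h0),
    hψ (by simpa only [map_mul, map_inv, map_one] using h1),
    hψ (by simpa only [map_mul, map_inv, map_one] using h2),
    hψ (by simpa only [map_mul, map_inv, map_one] using h3),
    hψ (by simpa only [map_mul, map_inv, map_one] using h4),
    hψ (by simpa only [map_mul, map_inv, map_one] using h5),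
    hψ (by simpa only [map_mul, map_inv, map_one] using h6),
    hψ (by simpa only [map_mul, map_inv, map_one] using h7),
    hψ (by simpa only [map_mul, map_inv, map_one] using h8),
    hψ (by simpa only [map_mul, map_inv, map_one] using h9)⟩

theorem Rel.prod {G G' : Type*} [Group G] [Group G'] {t a b f : G} {t' a' b' f' : G'}
    (h : Rel t a b f) (k : Rel t' a' b' f') :
    Rel (t, t') (a, a') (b, b') (f, f') := by
  obtain ⟨h0, h1, h2, h3, h4, h5, h6, h7, h8, h9⟩ := h
  obtain ⟨k0, k1, k2, k3, k4, k5, k6, k7, k8, k9⟩ := k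
  exact ⟨Prod.ext h0 k0, Prod.ext h1 k1, Prod.ext h2 k2, Prod.ext h3 k3, Prod.ext h4 k4, Prod.ext h5 k5, Prod.ext h6 k6, Prod.ext h7 k7, Prod.ext h8 k8, Prod.ext h9 k9⟩

theorem Rel.sat {G : Type*} [Group G] {t a b f : G} (h : Rel t a b f) :
    ∀ R ∈ LBE.rels, ev (lt [t, a, b, f]) R = 1 := by
  obtain ⟨h0, h1, h2, h3, h4, h5, h6, h7, h8, h9⟩ := h
  exact List.forall_mem_cons.2 ⟨show t * (t * 1) = 1 by
      simpa only [mul_assoc, mul_inv_rev, inv_inv, inv_one, mul_one, one_mul] using mul_inv_eq_one.2 h0,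
    List.forall_mem_cons.2 ⟨show a * (a * (a * (a * (a * (a * (a * (a * 1))))))) = 1 by
      simpa only [mul_assoc, mul_inv_rev, inv_inv, inv_one, mul_one, one_mul] using mul_inv_eq_one.2 h1,
    List.forall_mem_cons.2 ⟨show b * (b * 1) = 1 by
      simpa only [mul_assoc, mul_inv_rev, inv_inv, inv_one, mul_one, one_mul] using mul_inv_eq_one.2 h2,
    List.forall_mem_cons.2 ⟨show b * (a * (b * (a⁻¹ * (a⁻¹ * (a⁻¹ * 1))))) = 1 by
      simpa only [mul_assoc, mul_inv_rev, inv_inv, inv_one, mul_one, one_mul] using mul_inv_eq_one.2 h3,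
    List.forall_mem_cons.2 ⟨show t * (a * (t⁻¹ * (a⁻¹ * 1))) = 1 by
      simpa only [mul_assoc, mul_inv_rev, inv_inv, inv_one, mul_one, one_mul] using mul_inv_eq_one.2 h4,
    List.forall_mem_cons.2 ⟨show t * (b * (t⁻¹ * (b⁻¹ * 1))) = 1 by
      simpa only [mul_assoc, mul_inv_rev, inv_inv, inv_one, mul_one, one_mul] using mul_inv_eq_one.2 h5,
    List.forall_mem_cons.2 ⟨show f * (f * 1) = 1 by
      simpa only [mul_assoc, mul_inv_rev, inv_inv, inv_one, mul_one, one_mul] using mul_inv_eq_one.2 h6,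
    List.forall_mem_cons.2 ⟨show f * (a * (f * (a⁻¹ * (a⁻¹ * (a⁻¹ * (a⁻¹ * (a⁻¹ * 1))))))) = 1 by
      simpa only [mul_assoc, mul_inv_rev, inv_inv, inv_one, mul_one, one_mul] using mul_inv_eq_one.2 h7,
    List.forall_mem_cons.2 ⟨show f * (b * (f⁻¹ * (b⁻¹ * 1))) = 1 by
      simpa only [mul_assoc, mul_inv_rev, inv_inv, inv_one, mul_one, one_mul] using mul_inv_eq_one.2 h8,
    List.forall_mem_cons.2 ⟨show t * (f * (t⁻¹ * (f⁻¹ * 1))) = 1 by
      simpa only [mul_assoc, mul_inv_rev, inv_inv, inv_one, mul_one, one_mul] using mul_inv_eq_one.2 h9,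
    fun _ h => absurd h List.not_mem_nil⟩⟩⟩⟩⟩⟩⟩⟩⟩⟩

theorem Rel.of_sat {G : Type*} [Group G] {t a b f : G}
    (h : ∀ R ∈ LBE.rels, ev (lt [t, a, b, f]) R = 1) : Rel t a b f := by
  obtain ⟨h0, h⟩ := List.forall_mem_cons.1 h
  obtain ⟨h1, h⟩ := List.forall_mem_cons.1 h
  obtain ⟨h2, h⟩ := List.forall_mem_cons.1 h
  obtain ⟨h3, h⟩ := List.forall_mem_cons.1 h
  obtain ⟨h4, h⟩ := List.forall_mem_cons.1 h
  obtain ⟨h5, h⟩ := List.forall_mem_cons.1 h
  obtain ⟨h6, h⟩ := List.forall_mem_cons.1 h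
  obtain ⟨h7, h⟩ := List.forall_mem_cons.1 h
  obtain ⟨h8, h⟩ := List.forall_mem_cons.1 h
  obtain ⟨h9, h⟩ := List.forall_mem_cons.1 h
  exact ⟨mul_inv_eq_one.1 (by simpa only [mul_assoc, mul_inv_rev, inv_inv, inv_one, mul_one, one_mul] using (show t * (t * 1) = 1 from h0)),
    mul_inv_eq_one.1 (by simpa only [mul_assoc, mul_inv_rev, inv_inv, inv_one, mul_one, one_mul] using (show a * (a * (a * (a * (a * (a * (a * (a * 1))))))) = 1 from h1)),
    mul_inv_eq_one.1 (by simpa only [mul_assoc, mul_inv_rev, inv_inv, inv_one, mul_one, one_mul] using (show b * (b * 1) = 1 from h2)),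
    mul_inv_eq_one.1 (by simpa only [mul_assoc, mul_inv_rev, inv_inv, inv_one, mul_one, one_mul] using (show b * (a * (b * (a⁻¹ * (a⁻¹ * (a⁻¹ * 1))))) = 1 from h3)),
    mul_inv_eq_one.1 (by simpa only [mul_assoc, mul_inv_rev, inv_inv, inv_one, mul_one, one_mul] using (show t * (a * (t⁻¹ * (a⁻¹ * 1))) = 1 from h4)),
    mul_inv_eq_one.1 (by simpa only [mul_assoc, mul_inv_rev, inv_inv, inv_one, mul_one, one_mul] using (show t * (b * (t⁻¹ * (b⁻¹ * 1))) = 1 from h5)),
    mul_inv_eq_one.1 (by simpa only [mul_assoc, mul_inv_rev, inv_inv, inv_one, mul_one, one_mul] using (show f * (f * 1) = 1 from h6)),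
    mul_inv_eq_one.1 (by simpa only [mul_assoc, mul_inv_rev, inv_inv, inv_one, mul_one, one_mul] using (show f * (a * (f * (a⁻¹ * (a⁻¹ * (a⁻¹ * (a⁻¹ * (a⁻¹ * 1))))))) = 1 from h7)),
    mul_inv_eq_one.1 (by simpa only [mul_assoc, mul_inv_rev, inv_inv, inv_one, mul_one, one_mul] using (show f * (b * (f⁻¹ * (b⁻¹ * 1))) = 1 from h8)),
    mul_inv_eq_one.1 (by simpa only [mul_assoc, mul_inv_rev, inv_inv, inv_one, mul_one, one_mul] using (show t * (f * (t⁻¹ * (f⁻¹ * 1))) = 1 from h9))⟩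

theorem rel : Rel t a b f := by decide +kernel

theorem model {G : Type*} [Group G] {t' a' b' f' : G} (h : Rel t' a' b' f') :
    ∃ φ : E →* G, φ t = t' ∧ φ a = a' ∧ φ b = b' ∧ φ f = f' := by
  obtain ⟨pt, h0, -, hT⟩ := LBE.enum (lt [t', a', b', f']) (1 : G)
    (lt_icol _ _ (k := 4) rfl (by decide +kernel)) (lt_ge le_rfl) h.sat
    (fun _ h => absurd h List.not_mem_nil)
  obtain ⟨φ, hφ⟩ := exists_hom tb (l := [t', a', b', f']) rfl h0 hT hom_chk
  exact ⟨φ, by simpa only [List.cons.injEq, and_true] using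
    (show [φ t, φ a, φ b, φ f] = [t', a', b', f'] from hφ)⟩

end H69.LB
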