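import Mathlib
import Cfsg.Agent.Base
import Cfsg.Agent.Lib.M12C.Tab

/-! the group Z4 ∘ 2^(1+4) (helper69; generated) -/

set_option autoImplicit false
set_option maxRecDepth 100000

namespace H69.LDE
open H54 (Tr force band)
open H18.TC
noncomputable def T_0 : Tr := (.node (nat_lit 3) (.node (nat_lit 1) (.node (nat_lit 0) (.leaf (nat_lit 0x4c8000059fe53ef7f71c618a80cb3ee540b52f3acc3e26171000000001f2c7196227f7867fc7ccc3d660e3689fb036e418f200110000237c4fbe3123f935bc8ace45e712b6083b443e62373002a80000afc93de5207310d9c55fe2bff36b71dba46dd037e800110000172d67eea0f368a7b0ecd277e9293781bfc13ea0975001980000fad4b86b137607fb4d8dc6b6e017f94dbc0aec05f6000880000cce05f710b39039cc60e82f74043a811d801fe01ff0000000005cee2d780d3c88fe858f62b7b03be00df404fc017e)) (.leaf (nat_lit 0x4400000d2c265fe902a4175668ad35d633eea1770cdee6a77002a80000bdfc6061812ac8950b9ae5dd741ae18d74c1f06278003b8000206ab24d40a70857f876b03bd80c2f85b7832f21af900198000242a906d506ff0498464b232d9066f03d7c45f4227a002a8000262ac5b571d2c0c5645dfc2ffe47302b36c92b449da001100000c9ba86dc08af8317950b6aadb09b081ff811f80a7c00198000108b8645d05af0417d18c08b6001ff04f840cfa04fd004400000a2de2dff8d713eb8cacc855645db59ffa8d3e06770)))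 (.node (nat_lit 2) (.leaf (nat_lit 0x3b80000b7af325619ec8e5606cc234e157eda458070f6377b003b8000197a2795039e9bad48f0f875fc3bbd9d3691ec09060002200000fef87cfd6be737d3cfca07bd0403ba03e104b884dc004c800016ffab8fc6ea7b593992a2c8515ebc2ebdd78bab9dd001100001bc9ed9ce153e09df5dca4efd2143c893e84bbc295e001100001b19ce0cf103e877f0e2a672d310bd06fe439be1f5f002a80000f6a0ca5176291bd4cd5fa6bfd372d1b3ed5eb6addb002a80000a8f050f7267d141e495b44bda297e947f09dc24de1)) (.leaf (nat_lit 0x2a800011990924952652c92d15ec8bf64874237d11fd28ee9003b80000bfe268f008f9855c86ad035e80a3b04bd49cde4f6f00198000231f31c7a8bfc46dde399919cc8ae7c5b3a3ca922d4002200001f8f4f8f97dbbbfde1f49af7cd7ea73f73e00ab03d5002a80000adb4587b88a63d734a9ee55f73d2833544b4ae59570000000027cf739da9d66ce3327ef13ff89ea8cdf4278ad36d6002a80001e89b14cc242d105ec79f23df978a91c74c7fb23ed90000000022498f34d217d91d688cf444fa3829bc74888b041d8)))) (.node (nat_lit 5) (.node (nat_lit 4) (.leaf (nat_lit 0x3b80002198b2a441c740e7d078e43af251a52d52c84ce43e7003b8000259890a45187a0d1a066e631f35a25a9d287ecc4066003b8000274ca5764237391f9898de4b6f3ab49b7b894e848f40022000015892a9c858a5aa32956eaa7f556ba2c1a15cdcaeee0000000010eea83f660a32711d129089c8433820bc50ad481ea001980000c7ec65754e63b01192a9296c931789a1c174d6bbeb0033000013b8ebe4605fa82bd94294a04a0bb9035cc51d8266c0019800017e8c9ec707fb043d56e96b64b077985fc83dda1d6d))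 (.leaf (nat_lit 0x4c80000f1d27aee67a13910cf8d47dea9c329e791269295c9002a8000193dccc6973e1b41098fd6c8eb66724f3959590ce48004c80001d186e9c27574bafb9e0d8edec7933bc399de96eccb003b80001a384e54337771d1a4e6da70ed39331bf9d4894a64a0000000024ae520f390f8c7fc256892e449223c7b1a46c51de20000000020ee702f28338407c6168b0e4582a34031e08c6ffe3003b8000263d130f497624bf166ce133f09aa44cb266ecb3be5000880000b5e85c6885e2ca110bce25d714a24a2120b1c859e4))) (.node (nat_lit 6) (.leaf (nat_lit 0x198000154b68d6061a02650514b888dc43ebcd3599ba2cb51004c8000123c0abdb4c20b17012eba94dd99ab24f5d2ca092d0002a800014382c6c054ada95813fbca0de536ca8b614ba6a3d30033000018880b2c158f02c36d6bbeb6df5a6c2cf65daa4eed20000000022acd11e79cb2c439234c51d628a2143f0e268b0ec5004c80001e5cef3e67b324ed95f0c6f9e37ba1bd30a52892bc4002a80001b4d8d96d6af5b61a9a784d4c28bb13f38dad8cdb46000000001c2daddec6f75373adc686e2437f31c5989c08edbc7)) (.leaf (nat_lit 0x22000018e94c3cb6324b0b218a8cc1c684a2c9911cc86e7430033000016696a24a4c6425f25368e9a4793a242115a584d142003300001d4a4d25367e8b3b41aa9cd44e7aa6c4f31a182d341002a80001c9a6e95271e83a145c39ee2cf88263db35cd80e5c000198000253b12d5993ebcbd5a5ba92ad492e049b06589b28cd00198000213b30d58982b4315e1bab0ad583e0c23021e9912cc004c800017bbcbedf5feeb03718480c4c08faa41355b59cd74e002a800013ebe9e5e4dee2757533829ac180aac8f51b89edfcf)))))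
noncomputable def J_0 : Tr := (.node (nat_lit 3) (.node (nat_lit 1) (.node (nat_lit 0) (.leaf (nat_lit 0x4004006002000000000c000002000c00000000000000020010000000000006000400400000200100000000000028002002001000000000200100080020020010000008004001000000000400000200000040008008004000000000000000c0010000002002000000001000000000000000000000000000001001000800000000000000100000000000000000000)) (.leaf (nat_lit 0x20020000008000004002000800c000000000800000000080080040000000018000000000000c004004000001000000a00000080000000010010000000002800800000200000000000000000004004002000001800000a000001000400000000000040010010008000000000000000000000000040040040000020000001001001000c000000000000c006000))) (.node (nat_lit 2) (.leaf (nat_lit 0x10001001000000000400300000000000000008002002000000000800000500000000000000010004000000800800000800000080020020030000000000000000001000000300000000080000000000008000800800400000000080040000040000008001001000800000000000000000010010008000006000001000000000400080020020010008018004002))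 (.leaf (nat_lit 0x4000001000400400200300180080040000008012002000000000800000500000000000020000010000001001c0040040000008000000002000000000100100000080000010000004000000002c00400200000000000000000000004006001000000400000100040040000000008000001001000800000a002001000000000000180000000050000018001001)))) (.node (nat_lit 5) (.node (nat_lit 4) (.leaf (nat_lit 0x8001001001000000400000000000020000010002002000000000800000000000000000000004004004000000000000c0000028000000002000000c001001000000000000100000000020000000000002000000800200200000100000020000000012002000000000c000003000001a0020000000000000001000000000000500200080000008008008002000)) (.leaf (nat_lit 0x400400c00000000000020000020000006000000800000200080080040040010010000001001001801c00a0000020000006000001800000600080080000000020000014000000000000000200300080000000000008002002000000000400000100000000000010004004000003002c004004000001000000a000000800000800000100000000000000002002001))) (.node (nat_lit 6)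 (.leaf (nat_lit 0x7001001000c00000080080080000030000010000004000000c000001001000000100100080040060040010000000004002c0040040060008018000003000000000200000080000000000008002002000800800c0000000000004000004000001000000000000040010010008000006002000000000000100180040000000000000001001)) (.leaf (nat_lit 0x400000180020020000000000000000000000000b00100000000000000020000000000000001600200000000000020040000000002000000800200200100000100040020000008000004000000400700100100000080000010000000000000800e0020020000004001001001801c00a0000008000002003000000000000000080020020010000004000001)))))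
noncomputable def F_0 : Tr := (.node (nat_lit 4) (.node (nat_lit 1) (.node (nat_lit 0) (.leaf (nat_lit 0xf3dfbfcb3c70bafb2debbe78db7d3575c69b6192d15544d2590aeaa299a711f8e286091e20718594308f38d317289001)) (.leaf (nat_lit 0xf3dfbfcb3c70bafb2debbe78db7d3575c69b6192d15544d2590aeaa299a711f8e286091e20718594308f38d317289001))) (.node (nat_lit 2) (.leaf (nat_lit 0xefacf2fbfaaba689e6f3d71d6da658e78db7d3545738f30d2cac70bafb2d7e51c81461038e2860901795513496010242)) (.node (nat_lit 3) (.leaf (nat_lit 0xebbcb3ffeaeaa299a7f7c75c69b619e39df6d7458b3ce34c5c9c31beeb6c9042071859428a38217de0545524d1400283)) (.leaf (nat_lit 0xe78c70aeaffe8e286075cf7c5544d2efa3ce34c40adf6d74257cf2207185783beeb6c0a5a689e60647db6996005912c4))))) (.node (nat_lit 6) (.node (nat_lit 5) (.leaf (nat_lit 0xe78c70aeaffe8e286075cf7c5544d2efa3ce34c40adf6d74257cf2207185783beeb6c0a5a689e60647db6996005912c4)) (.leaf (nat_lit 0xdf6beea688e2fbf7e46da554f3d4563ceebb2d7675e3924ad0d207cb31259edc31083b06aab05e9a181c7404184d2305)))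 (.node (nat_lit 7) (.leaf (nat_lit 0xdb7bafa298a3ffe91f69b515f7c59138fefa5cb634e78289d4c1c8cf29449acc700c2b45aea7819e085d710019493346)) (.node (nat_lit 8) (.leaf (nat_lit 0xd35b2d9a78217e4ffe619493456f7c30d2d7efa6f724ae78d8f146125cf2a6f083c70b8805eaeaa2388041d71a554387)) (.leaf (nat_lit 0xd74b6c9e686091ffbf6584d2591f3d34c5cbebb6b6289e39dce185944cb3a2e0c2c31bc7781aaba628d001c75b5153c8))))))
noncomputable def T : Tr := T_0
noncomputable def J : Tr := J_0
noncomputable def F : Tr := F_0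
noncomputable def row (u : ℕ) : ℕ := Nat.land (Nat.shiftRight (force (Nat.shiftRight u (nat_lit 3)) T.get) (Nat.mul (Nat.land u (nat_lit 7)) (nat_lit 204))) (nat_lit 0xfffffffffffffffffffffffffffffffffffffffffffffffffff)
noncomputable def jrow (u : ℕ) : ℕ := Nat.land (Nat.shiftRight (force (Nat.shiftRight u (nat_lit 3)) J.get) (Nat.mul (Nat.land u (nat_lit 7)) (nat_lit 143))) (nat_lit 0x7fffffffffffffffffffffffffffffffffff)
noncomputable def fget (k fx : ℕ) : ℕ := F.get (Nat.add k fx)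
noncomputable def wt0 : LT := (.node (nat_lit 1) (.node (nat_lit 0) (.leaf 1 0 [nat_lit 17])
(.leaf 27 2 [nat_lit 85, nat_lit 102, nat_lit 102, nat_lit 0, nat_lit 85]))
(.node (nat_lit 3) (.node (nat_lit 2) (.leaf 17 1 [nat_lit 153, nat_lit 0, nat_lit 136])
(.leaf 13 1 [nat_lit 51, nat_lit 0, nat_lit 34]))
(.node (nat_lit 4) (.leaf 15 1 [nat_lit 119, nat_lit 0, nat_lit 102])
(.leaf 0 0 []))))
noncomputable def wt1 : LT := (.node (nat_lit 1) (.node (nat_lit 0) (.leaf 13 3 [nat_lit 34, nat_lit 17, nat_lit 51])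
(.leaf 27 0 [nat_lit 85, nat_lit 17, nat_lit 85, nat_lit 102, nat_lit 102]))
(.node (nat_lit 2) (.leaf 17 3 [nat_lit 136, nat_lit 17, nat_lit 153])
(.node (nat_lit 3) (.leaf 15 3 [nat_lit 102, nat_lit 17, nat_lit 119])
(.leaf 0 0 []))))
noncomputable def wt2 : LT := (.node (nat_lit 2) (.node (nat_lit 0) (.leaf 13 2 [nat_lit 0, nat_lit 34, nat_lit 17])
(.node (nat_lit 1) (.leaf 11 1 [nat_lit 51, nat_lit 102, nat_lit 102])
(.leaf 29 0 [nat_lit 85, nat_lit 51, nat_lit 85])))
(.node (nat_lit 4) (.node (nat_lit 3) (.leaf 21 1 [nat_lit 153, nat_lit 34, nat_lit 136])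
(.leaf 19 1 [nat_lit 119, nat_lit 34, nat_lit 102]))
(.node (nat_lit 5) (.leaf 11 2 [nat_lit 102, nat_lit 102, nat_lit 51])
(.leaf 0 0 []))))
noncomputable def wt3 : LT := (.node (nat_lit 2) (.node (nat_lit 0) (.leaf 19 3 [nat_lit 102, nat_lit 51, nat_lit 119])
(.node (nat_lit 1) (.leaf 21 3 [nat_lit 136, nat_lit 51, nat_lit 153])
(.leaf 13 0 [nat_lit 17, nat_lit 51, nat_lit 0])))
(.leaf 0 0 []))
noncomputable def wt4 : LT := (.node (nat_lit 0) (.leaf 3 0 [nat_lit 85])
(.node (nat_lit 2) (.node (nat_lit 1) (.leaf 23 1 [nat_lit 119, nat_lit 68, nat_lit 102])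
(.leaf 29 3 [nat_lit 51, nat_lit 85, nat_lit 51]))
(.node (nat_lit 4) (.node (nat_lit 3) (.leaf 25 1 [nat_lit 153, nat_lit 68, nat_lit 136])
(.leaf 27 1 [nat_lit 17, nat_lit 85, nat_lit 102, nat_lit 102, nat_lit 0]))
(.node (nat_lit 5) (.leaf 27 3 [nat_lit 102, nat_lit 102, nat_lit 0, nat_lit 85, nat_lit 17])
(.leaf 0 0 [])))))
noncomputable def wt5 : LT := (.node (nat_lit 1) (.node (nat_lit 0) (.leaf 25 3 [nat_lit 136, nat_lit 85, nat_lit 153])
(.leaf 23 3 [nat_lit 102, nat_lit 85, nat_lit 119]))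
(.leaf 0 0 []))
noncomputable def wt6 : LT := (.node (nat_lit 1) (.node (nat_lit 0) (.leaf 15 2 [nat_lit 0, nat_lit 102, nat_lit 17])
(.leaf 5 0 [nat_lit 119, nat_lit 119, nat_lit 119]))
(.node (nat_lit 3) (.node (nat_lit 2) (.leaf 23 2 [nat_lit 68, nat_lit 102, nat_lit 85])
(.leaf 19 2 [nat_lit 34, nat_lit 102, nat_lit 51]))
(.node (nat_lit 4) (.leaf 9 1 [nat_lit 153, nat_lit 119, nat_lit 136])
(.leaf 0 0 []))))
noncomputable def wt7 : LT := (.node (nat_lit 2) (.node (nat_lit 0) (.leaf 23 0 [nat_lit 85, nat_lit 119, nat_lit 68])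
(.node (nat_lit 1) (.leaf 19 0 [nat_lit 51, nat_lit 119, nat_lit 34])
(.leaf 27 5 [nat_lit 0, nat_lit 85, nat_lit 17, nat_lit 85, nat_lit 102])))
(.node (nat_lit 6) (.node (nat_lit 4) (.node (nat_lit 3) (.leaf 11 0 [nat_lit 51, nat_lit 51, nat_lit 102])
(.leaf 7 3 [nat_lit 102, nat_lit 153, nat_lit 153]))
(.node (nat_lit 5) (.leaf 11 3 [nat_lit 102, nat_lit 51, nat_lit 51])
(.leaf 7 0 [nat_lit 153, nat_lit 153, nat_lit 102])))
(.leaf 0 0 [])))
noncomputable def wt8 : LT := (.node (nat_lit 1) (.node (nat_lit 0) (.leaf 17 2 [nat_lit 0, nat_lit 136, nat_lit 17])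
(.leaf 25 2 [nat_lit 68, nat_lit 136, nat_lit 85]))
(.node (nat_lit 3) (.node (nat_lit 2) (.leaf 7 1 [nat_lit 153, nat_lit 102, nat_lit 102])
(.leaf 7 2 [nat_lit 102, nat_lit 102, nat_lit 153]))
(.node (nat_lit 5) (.node (nat_lit 4) (.leaf 9 2 [nat_lit 119, nat_lit 136, nat_lit 119])
(.leaf 21 2 [nat_lit 34, nat_lit 136, nat_lit 51]))
(.leaf 0 0 []))))
noncomputable def wt9 : LT := (.node (nat_lit 1) (.node (nat_lit 0) (.leaf 25 0 [nat_lit 85, nat_lit 153, nat_lit 68])
(.leaf 21 0 [nat_lit 51, nat_lit 153, nat_lit 34]))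
(.node (nat_lit 3) (.node (nat_lit 2) (.leaf 9 0 [nat_lit 119, nat_lit 153, nat_lit 119])
(.leaf 17 0 [nat_lit 17, nat_lit 153, nat_lit 0]))
(.leaf 0 0 [])))
noncomputable def wt10 : LT := (.leaf 0 0 [])
noncomputable def sl : List (ℕ × ℕ × List ℕ × List ℕ) := []
/-- the inverse column -/
noncomputable def icol (x : ℕ) : ℕ := List.getD [nat_lit 1, nat_lit 0, nat_lit 3, nat_lit 2, nat_lit 5, nat_lit 4, nat_lit 7, nat_lit 6, nat_lit 9, nat_lit 8] x x
noncomputable def inv (x : ℕ) : ℕ := Nat.mul (icol (Nat.div x (nat_lit 17))) (nat_lit 17)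
def cols : List ℕ := [nat_lit 170, nat_lit 0, nat_lit 17, nat_lit 34, nat_lit 51, nat_lit 68, nat_lit 85, nat_lit 102, nat_lit 119, nat_lit 136, nat_lit 153]
noncomputable def cl : CL := (.cons (nat_lit 0) (nat_lit 17) (nat_lit 0) (nat_lit 0) wt0
(.cons (nat_lit 17) (nat_lit 0) (nat_lit 13) (nat_lit 1) wt1
(.cons (nat_lit 34) (nat_lit 51) (nat_lit 26) (nat_lit 2) wt2
(.cons (nat_lit 51) (nat_lit 34) (nat_lit 39) (nat_lit 3) wt3
(.cons (nat_lit 68) (nat_lit 85) (nat_lit 52) (nat_lit 4) wt4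
(.cons (nat_lit 85) (nat_lit 68) (nat_lit 65) (nat_lit 5) wt5
(.cons (nat_lit 102) (nat_lit 119) (nat_lit 78) (nat_lit 6) wt6
(.cons (nat_lit 119) (nat_lit 102) (nat_lit 91) (nat_lit 7) wt7
(.cons (nat_lit 136) (nat_lit 153) (nat_lit 104) (nat_lit 8) wt8
(.cons (nat_lit 153) (nat_lit 136) (nat_lit 117) (nat_lit 9) wt9
.nil))))))))))
def rels : List (List ℕ) := [[0, 0],
[4, 4],
[6, 6, 6, 6],
[7, 7, 8, 8],
[9, 6, 8, 6],
[7, 7, 2, 2],
[3, 1, 2, 0],
[7, 1, 6, 0],
[9, 1, 8, 0],
[7, 3, 6, 2],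
[9, 3, 8, 2],
[7, 5, 6, 4],
[9, 5, 8, 4],
[1, 7, 7, 4, 0, 4],
[2, 4, 2, 4]]
def subs : List (List ℕ) := []
noncomputable def chk : ℕ → Bool := rowChk row jrow fget sl cols (nat_lit 64) (nat_lit 64) (nat_lit 131071) (nat_lit 127) (nat_lit 131072) (nat_lit 170) (nat_lit 187) (nat_lit 8191) (nat_lit 6) (nat_lit 63) (nat_lit 6) (nat_lit 63) cl (nat_lit 130) wt10
theorem p0 : allB chk 6 0 = true := by decide +kernel
theorem all_chk : AllLt chk 64 := by
  have h := AllLt.zero chk
  have h := h.step 64 p0 (by decide +kernel)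
  exact h
/-- column `x` of the final table -/
noncomputable def tab (x u : ℕ) : ℕ := ft fget (nat_lit 6) (nat_lit 63) (nat_lit 6) (nat_lit 63) (Nat.mul x (nat_lit 1)) u
theorem enum {G Ω : Type*} [Group G] [MulAction G Ω] (g : ℕ → G) (ω : Ω)
    (hinv : ∀ x, g (icol x) = (g x)⁻¹) (h1 : g 10 = 1)
    (hrels : ∀ R ∈ rels, ev g R = 1) (hsubs : ∀ S ∈ subs, ev g S • ω = ω) :
    ∃ pt : ℕ → Ω, pt 0 = ω ∧ (∀ K : Subgroup G, (∀ x, g x ∈ K) → ∀ v, ∃ k ∈ K, pt v = k • ω) ∧
      ∀ x, x < 10 → ∀ u, u < 64 → tab x u < 64 ∧ g x • pt u = pt (tab x u) :=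
  sound_scaled g ω row jrow fget sl inv icol cols (nat_lit 64) (nat_lit 64) (nat_lit 131071) (nat_lit 127) (nat_lit 131072) (nat_lit 170) (nat_lit 187) (nat_lit 8191) (nat_lit 6) (nat_lit 63) (nat_lit 6) (nat_lit 63) 7 cl (nat_lit 130) wt10 rels subs 17 (nat_lit 1) 10
    (fun _ => Nat.mul_div_cancel _ (by decide)) hinv h1 hrels hsubs
    (by decide +kernel) (by decide +kernel) all_chk
end H69.LDE

namespace H69.LD
open H70.TM H18.TC Subgroup

noncomputable def rt : RT := ⟨nat_lit 64, nat_lit 6, nat_lit 63,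
  (.node (nat_lit 31) (.node (nat_lit 15) (.node (nat_lit 7) (.node (nat_lit 3) (.node (nat_lit 1) (.node (nat_lit 0) (.leaf (nat_lit 0xffef7cefae78df6d74cf2c70beeb6caeaa689e69648e28607de75c6da6585d65544d24503ce34c2ca2481c61440c2040))
(.leaf (nat_lit 0xebbe78fbff7ca6a8a16da923a2781f7b6defb91431c35d2db2b4d2cf22c734c3ca75c9a55435d6654144602248386001)))
(.node (nat_lit 2) (.leaf (nat_lit 0xdf6248aa9144fbf9a58a171d6daf7c07aef3cafb924d1439e00c70d7438bb6c1eb923a2761581f0de5d665434c3ca182))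
(.leaf (nat_lit 0xc70d74923a2775cf7c81fffe5d69a56534b9e2db3be8d333c8fdf6248acabee18eaa91447948a10986da05545000b1c3))))
(.node (nat_lit 5) (.node (nat_lit 4) (.leaf (nat_lit 0xd6fc06a228c299bf95a43f57fd9701f3347a2f61f937b3d2038b49dced32c6bbac805a989e591e85f7546964ca40c204))
(.leaf (nat_lit 0xbb41b18670a46a557f0ea5bc67e05df50c8bec7dcce0fe804f922c3b6d73af0bed11f629a267a38a051c6d729244d245)))
(.node (nat_lit 6) (.leaf (nat_lit 0xa6a144db7248efa450d74493cf2e7803ff9b6a89dc76697df019238a10d981f61ec70bee1cfb6c3ab34c2ca5d6554086))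
(.leaf (nat_lit 0x8e4a27c31d7449334c248efae78cf23dc75758513ffbdf26959aa981f0818a1798df6b6c180beeace45028b6da5150c7)))))
(.node (nat_lit 11) (.node (nat_lit 9) (.node (nat_lit 8) (.leaf (nat_lit 0x8a88c2bf5c06473ecfdcee4de8b480e1b9bf66a63d5fe55c07c805a4385a91e9dfb49d87b90c6bd2c4cac8c754956108))
(.leaf (nat_lit 0x9e10a4d2e1b1c903fa3b63382fb013e65699f98a56f15fc177d11f0ea89b7a3a2022c1f7bd1af0d6d292ccd51c997149)))
(.node (nat_lit 10) (.leaf (nat_lit 0xfbf5d6ebb34cdb7bee450c31d742481a9aa285b6a39289c510271d9a5543f7c641493cf22c7e783c0b6c3ab81f61e50a))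
(.leaf (nat_lit 0x75c6da4d2450c31b6c34cdb7248d741e39207d75a9a851289c3ffef7c5029a5059efae78286cf200fbeeace8a179854b))))
(.node (nat_lit 13) (.node (nat_lit 12) (.leaf (nat_lit 0x99b754cd14cabf5d87ecf26ddcec06222a290ff64582a623084f57f959617016bce4de8bcae480438c6bd2c91e9df58c))
(.leaf (nat_lit 0x6a551c432292d2e1f73fab083b61b1267843a99f9f118a429055bc57f9a205d6fd3382fbcef013479af0d6d7a3a205cd)))
(.node (nat_lit 14) (.leaf (nat_lit 0x9238a1c70bee4d2e78b6cebb34c4502dd73df207fefd759b695a6a144794a27083db7248acad74187cf200f9a505960e))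
(.leaf (nat_lit 0x71d9a5493cf2c70248e78df6b6cbee3a48c513df2aa607e2858fbf5d605e6da515ebb34c02b45028bd74187a2708364f))))))
(.node (nat_lit 23) (.node (nat_lit 19) (.node (nat_lit 17) (.node (nat_lit 16) (.leaf (nat_lit 0xf57f95e4de8bb49c06480d6fc6bd87d2016309c0688a47a90e799b754f1ffd95a5cd14cae2cecf332dce22ea98121690))
(.leaf (nat_lit 0x5bc57f3382fb22c1b1013bb4af01f7d447c29017619de8c3aa86a551cf6067e5e6432292e6d3fa3733b626f6291626d1)))
(.node (nat_lit 18) (.leaf (nat_lit 0x559f172cfe0d1ced2fc911abbb5b09c436278a56c27a1a1f1640546a6fea5bdf9d00a433ef7339e9322ddb0120a63712))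
(.leaf (nat_lit 0x6555bd3cb339387bb5433ac6d2f22dc180e1a1a99e0a788482350195bfa9f17fdc280c91eb6e0ded2b09df17c5aa4753))))
(.node (nat_lit 21) (.node (nat_lit 20) (.leaf (nat_lit 0xefa34cffe5d6aa9a279a58e48a11440b7db5d33cb0c6fb892064934503cee782c071d6da658f7c54181f0deb6c1eb294))
(.leaf (nat_lit 0x49345071d6da923144f7ca6a81fa270f1c09239e36dedb35d07efa34c02bcf228fffe5d605e9a55198a1098bee18e2d5)))
(.node (nat_lit 22) (.leaf (nat_lit 0x4734ca6e6754a22a98f95160a438c2135bf73ba2c9b761f0188e4decf434480cb8f57fd96a770197c91e85fc6bbac316))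
(.leaf (nat_lit 0xc9029295a51c86762957f7c40ea0a416ed0ed8beec207dc6c493383fa475013cf95bc67e6e805d9bd7a38a0af0bed357)))))
(.node (nat_lit 27) (.node (nat_lit 25) (.node (nat_lit 24) (.leaf (nat_lit 0xc31bee8e48a171d5d6144fbff7c6da5524cd30923aef9e1140bdb7b6c180d74ac7a6a81f081a277839a5519cf228f398))
(.leaf (nat_lit 0x4d2cf275c9a58e481f5d6aa91448a1630c6db0d337d8922fb8eebbe7828645000bfbff7c5026da055a27783d74ac73d9)))
(.node (nat_lit 26) (.leaf (nat_lit 0x379e8b5fdf9516091e754a228c2a439c9b71ad32b5bf01b61f4cd1480308ecfe3299b701584fd9f25a987e1dceb2e41a))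
(.leaf (nat_lit 0xe0c2fbf1657f7c47a351c8670a40eaa2c22bc0a4aed06c47df54320133493fae736a505d5c567ef666298223b6b6f45b))))
(.node (nat_lit 29) (.node (nat_lit 28) (.leaf (nat_lit 0x3cbe0d655f176038686a609e9e27c590e1eed50cc6af4bec27100ac91eb6339ed305495bfa95bdfdd120aa322ddf049c))
(.leaf (nat_lit 0x2cf3395595bd0d89e295b7828681208c73b4bf246b1aed48b70280433ef7e0de925016a6feaf17f9c7c5a64b09db14dd)))
(.node (nat_lit 30) (.leaf (nat_lit 0xdb7b6ca6a81fffe6daa2775c9a55d653be91435d134b3c8d30ac31bee1cf2483868e48a10d9144602f7c541e782c0ade))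
(.leaf (nat_lit 0xbf5c6b8a891e6e6fd9a985fdf95754591cfb3f738de7a2d328c26dd87b90c06d08160a4385a8c29c470197c480cb8b1f)))))))
(.node (nat_lit 47) (.node (nat_lit 39) (.node (nat_lit 35) (.node (nat_lit 33) (.node (nat_lit 32) (.leaf (nat_lit 0xd2eaf09e17a395a67e629f1657f51c5f240fe8edb830beca48db081f7bd11b1d497c40ea89b0a4a0505d9bd013cf9b60))
(.leaf (nat_lit 0xb49dce805a985fd70191e6e6754f9568de52031ad1cd32ba2d0d6fc06b0cd87234a228c27d6a43127fd9f25ecfe32ba1)))
(.node (nat_lit 34) (.leaf (nat_lit 0x22c3b611f629f1605d7a395a51c57f6f83004ebc3240a48bed1bb41b1b4d1f72758670a48170ea16867ef663fae73be2))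
(.leaf (nat_lit 0x1ce22d0d812065595b8685016a6f1770f2f246ed4a010cf83521abd2fdfab09db109e9e2abe7c5a645bdfdd339ed3c23))))
(.node (nat_lit 37) (.node (nat_lit 36) (.leaf (nat_lit 0x387b096037c55596a69e205495b5bd74b3d0cf4bc02b244ce53ac6bb5dbb22ddf0782868a7f120aa3f17f9ce0de92c64))
(.leaf (nat_lit 0xe4decff57fd98058c27018a891ea9886d27019202fd71af73ae4734cae2ce8b3106e6754f1ff9559aa43127d87234ca5)))
(.node (nat_lit 38) (.leaf (nat_lit 0x3383fa5bc67e11f0a405d9e17a3629888b06c404f4babc0edafc90292e6d2fb35195a51cf6057f5db0ea1681f7275ce6))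
(.leaf (nat_lit 0x26dd87160a43f577548c299b701fd99793532b01b345203b3f2bf5c6b238dceb2e8a891e13ca987e1f9559ae8b310d27)))))
(.node (nat_lit 43) (.node (nat_lit 41) (.node (nat_lit 40) (.leaf (nat_lit 0xb081f77c40ea5bc51c0a46a505d67e98ce0a486c50c804cfeb3d2eaf02793b6b6f9e17a317d62982257f5db2fb351d68))
(.leaf (nat_lit 0x1abd2f09e9e2054f177c55595bd95bfc02b836c24b3cce7247b1ce22dc53bb5c370d812091d8688ea6a673e4334bada9)))
(.node (nat_lit 42) (.leaf (nat_lit 0xac6bb57828685015bd120655f176a6f8a00ce48b4f2f8350cfa387b09c12d2fc766037c58dc9e292995b77fc914fbdea))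
(.leaf (nat_lit 0xaa981fdf6b6cebbcf2bee4d245034c2befe696285d71b6975948e4a276151440c2c31d7438b2481c6e783c0f7c6417ab))))
(.node (nat_lit 45) (.node (nat_lit 44) (.leaf (nat_lit 0xa2291ed6fc6bcd1e8bd87379ecf4ca3266fe5690d7f7f65d516160a989e58c284426ddced32c06b884804387016bc7ec))
(.leaf (nat_lit 0x8677a3bb4af04322fb1f7e0c3fa29235a955fc3abc599f947177c4629a260a4885b083b6d731b1bc901347905d6fd82d)))
(.node (nat_lit 46) (.leaf (nat_lit 0x160a9826ddcee4d4cac06473480e8b43d5dd52309b99c07e55aa2291e13ca437e7d6fc6b238d87b34ecf332fd95a586e))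
(.leaf (nat_lit 0x7c4629b083b63382921b1c900132fb456f14702925681755fdb8677a317d0ea828bb4af02791f7b753fa37367e5e68af))))))
(.node (nat_lit 55) (.node (nat_lit 51) (.node (nat_lit 49) (.node (nat_lit 48) (.leaf (nat_lit 0x60312038722d2cf433d2f280c91e0d49565a9a78940656fc5dc09e868a7f7c5aa41abbb5dbbb09df1339e935bdf9d8f0))
(.leaf (nat_lit 0xd87c51ceb093cbc91bb500a4333394d95656e1a0151a996f5d7829e2abe120a63ac6d2fdfa22ddb0e0ded2f17fdc931)))
(.node (nat_lit 50) (.leaf (nat_lit 0x5fdfd9379ecf26dc6b4cabf5c06dceb8582479d522a230aa6216e6701584f95f1a473480308e8be10d87b34a437e7972))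
(.leaf (nat_lit 0xf1667ee0c3fab08af0292d2e1b13b6bdf11e8d4727842918a6295a05d5c557ff5bc900133492fbe511f7b750ea8289b3))))
(.node (nat_lit 53) (.node (nat_lit 52) (.leaf (nat_lit 0x805a43b49d87379480c6bcd14caecfc97f5c0647a66dd53f6658a88c27d6a98121bf5c06b0cdce22ee8be10f95f1a9f4))
(.leaf (nat_lit 0x11f0ea22c1f7e0c013af04322923facfc58175e8da954719fa69e10a4817629162d2e1b1b4d3b626f2fbe5157ff5ba35)))
(.node (nat_lit 54) (.leaf (nat_lit 0x7829e2ac6d2f28033922d2cfe0dc91ed4056f4481567c5e56ff0d87c58dc86892a1ceb09c12bb5c774334fa6a677ea76))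
(.leaf (nat_lit 0x9e8681abbb500ae0db093cb339433e8153c5df159556f5a9be60312091d9e28e938722dc53d2fc36c914bb95b73fab7)))))
(.node (nat_lit 59) (.node (nat_lit 57) (.node (nat_lit 56) (.leaf (nat_lit 0x6e6701473480d6fdcee8bb49d87c6bb288aa63e5601690e479f5fdfd96a7754956379ecf4344cac8cc06b888c2844f38))
(.leaf (nat_lit 0x95a05dc90013bb43b62fb22c1f7af0b619d8a55fc47c3a9e8e0f1667e6e851c997e0c3fa475292ccd1b1bc90a4885f79)))
(.node (nat_lit 58) (.leaf (nat_lit 0x546a600a433ac6b0933938722dd2fd9e09f156f580c48278a9559f1776395b73f2cfe0d4f0c914bbbb5c7786892afba))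
(.leaf (nat_lit 0x50195b280c911ab22de0d1ceb09bb5dc278483c5c361f161a2a6555bd7246a677e3cb3394b14334fad2fc369e28e9ffb))))
(.node (nat_lit 61) (.node (nat_lit 60) (.leaf (nat_lit 0xcd148099b7018a8a43fd9805a9891e7efd761fb3ed2773b1aec379e8bcae4ca40c5fdf959617546968c29c4c06d08e3c))
(.leaf (nat_lit 0x4320136a505d9e10ea67e11f6297a3834b87dcfe88b0edabc2de0c2fbcef29244df1657f9a251c6d70a4a051b1d49e7d)))
(.node (nat_lit 62) (.leaf (nat_lit 0x2804335016a609e120f176037c59e2a46ac8b7834e1ec274bf62cf3394b1c914fb5595bd72495b77f8688eabb5c37ebe))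
(.leaf (nat_lit 0xac9105495b7827c55bd0d8120868aab1ac24ce47388b6ed773cbe0d4f04334ba655f177636a673e9e2929d2fc76eff)))))))),
  (nat_lit 0xffef7cebbe78df6d74450c70bee2481a9aa28669648e89c510271d6da5585d6654493cf23c734c2cab6c3ab81f0de040),
  (nat_lit 0xbeeaeb8a179e6da6596185d655551451140f3ce38d30b2ca28a2481c71c71861861440c30c3082082041041000000000),
  (nat_lit 0x1051441051441051441441051441440841451051041451051021051440811440c21051440811440c21440c21440c2041),
  [nat_lit 1, nat_lit 2, nat_lit 3, nat_lit 4, nat_lit 5]⟩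

theorem okA0 : rt.chkA 1 = true := by decide +kernel
theorem okA1 : rt.chkA 2 = true := by decide +kernel
theorem okA2 : rt.chkA 3 = true := by decide +kernel
theorem okA3 : rt.chkA 4 = true := by decide +kernel
theorem okA4 : rt.chkA 5 = true := by decide +kernel
theorem okB : rt.chkB = true := by decide +kernel
noncomputable def tb : GT := ⟨rt, List.forall_mem_cons.2 ⟨okA0, List.forall_mem_cons.2 ⟨okA1, List.forall_mem_cons.2 ⟨okA2, List.forall_mem_cons.2 ⟨okA3, List.forall_mem_cons.2 ⟨okA4, fun _ h => absurd h List.not_mem_nil⟩⟩⟩⟩⟩, okB⟩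

theorem hom_chk : homChk tb (nat_lit 0xffe8e1f7c553efadf56d9e78db43cd2b3cafb699f1c2eb08183aeaa269258a07de75c69859751245038c2c91c5102040) 64 LDE.tab = true := by decide +kernel

/-- the group -/
abbrev E : Type := El tb

noncomputable def t : E := El.of tb 1
noncomputable def c : E := El.of tb 2
noncomputable def d : E := El.of tb 3
noncomputable def i : E := El.of tb 4
noncomputable def j : E := El.of tb 5

theorem card : Nat.card E = 64 := El.card tb

theorem eq_top {K : Subgroup E} (h0 : t ∈ K) (h1 : c ∈ K) (h2 : d ∈ K) (h3 : i ∈ K) (h4 : j ∈ K) : K = ⊤ :=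
  El.eq_top (List.forall_mem_cons.2 ⟨h0, List.forall_mem_cons.2 ⟨h1, List.forall_mem_cons.2 ⟨h2, List.forall_mem_cons.2 ⟨h3, List.forall_mem_cons.2 ⟨h4, fun _ h => absurd h List.not_mem_nil⟩⟩⟩⟩⟩)

/-- the relations -/
def Rel {G : Type*} [Group G] (t c d i j : G) : Prop :=
  t * t = 1 ∧
  d * d = 1 ∧
  i * i * (i * i) = 1 ∧
  j * j = i * i ∧
  i * j * i = j ∧
  c * c = i * i ∧
  t * c = c * t ∧
  t * i = i * t ∧
  t * j = j * t ∧
  c * i = i * c ∧
  c * j = j * c ∧
  d * i = i * d ∧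
  d * j = j * d ∧
  d * t * d = t * (i * i) ∧
  d * c * d = c⁻¹

instance {G : Type*} [Group G] [DecidableEq G] (t c d i j : G) : Decidable (Rel t c d i j) := by
  unfold Rel; infer_instance

theorem Rel.map {G G' : Type*} [Group G] [Group G'] (f : G →* G') {t c d i j : G}
    (h : Rel t c d i j) : Rel (f t) (f c) (f d) (f i) (f j) := by
  obtain ⟨h0, h1, h2, h3, h4, h5, h6, h7, h8, h9, h10, h11, h12, h13, h14⟩ := h
  exact ⟨by simpa only [map_mul, map_inv, map_one] using congrArg f h0,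
    by simpa only [map_mul, map_inv, map_one] using congrArg f h1,
    by simpa only [map_mul, map_inv, map_one] using congrArg f h2,
    by simpa only [map_mul, map_inv, map_one] using congrArg f h3,
    by simpa only [map_mul, map_inv, map_one] using congrArg f h4,
    by simpa only [map_mul, map_inv, map_one] using congrArg f h5,
    by simpa only [map_mul, map_inv, map_one] using congrArg f h6,
    by simpa only [map_mul, map_inv, map_one] using congrArg f h7,
    by simpa only [map_mul, map_inv, map_one] using congrArg f h8,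
    by simpa only [map_mul, map_inv, map_one] using congrArg f h9,
    by simpa only [map_mul, map_inv, map_one] using congrArg f h10,
    by simpa only [map_mul, map_inv, map_one] using congrArg f h11,
    by simpa only [map_mul, map_inv, map_one] using congrArg f h12,
    by simpa only [map_mul, map_inv, map_one] using congrArg f h13,
    by simpa only [map_mul, map_inv, map_one] using congrArg f h14⟩

theorem Rel.of_map {G G' : Type*} [Group G] [Group G'] {f : G →* G'} (hf : Function.Injective f)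
    {t c d i j : G} (h : Rel (f t) (f c) (f d) (f i) (f j)) : Rel t c d i j := by
  obtain ⟨h0, h1, h2, h3, h4, h5, h6, h7, h8, h9, h10, h11, h12, h13, h14⟩ := h
  exact ⟨hf (by simpa only [map_mul, map_inv, map_one] using h0),
    hf (by simpa only [map_mul, map_inv, map_one] using h1),
    hf (by simpa only [map_mul, map_inv, map_one] using h2),
    hf (by simpa only [map_mul, map_inv, map_one] using h3),
    hf (by simpa only [map_mul, map_inv, map_one] using h4),
    hf (by simpa only [map_mul, map_inv, map_one] using h5),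
    hf (by simpa only [map_mul, map_inv, map_one] using h6),
    hf (by simpa only [map_mul, map_inv, map_one] using h7),
    hf (by simpa only [map_mul, map_inv, map_one] using h8),
    hf (by simpa only [map_mul, map_inv, map_one] using h9),
    hf (by simpa only [map_mul, map_inv, map_one] using h10),
    hf (by simpa only [map_mul, map_inv, map_one] using h11),
    hf (by simpa only [map_mul, map_inv, map_one] using h12),
    hf (by simpa only [map_mul, map_inv, map_one] using h13),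
    hf (by simpa only [map_mul, map_inv, map_one] using h14)⟩

theorem Rel.prod {G G' : Type*} [Group G] [Group G'] {t c d i j : G} {t' c' d' i' j' : G'}
    (h : Rel t c d i j) (k : Rel t' c' d' i' j') :
    Rel (t, t') (c, c') (d, d') (i, i') (j, j') := by
  obtain ⟨h0, h1, h2, h3, h4, h5, h6, h7, h8, h9, h10, h11, h12, h13, h14⟩ := h
  obtain ⟨k0, k1, k2, k3, k4, k5, k6, k7, k8, k9, k10, k11, k12, k13, k14⟩ := k
  exact ⟨Prod.ext h0 k0, Prod.ext h1 k1, Prod.ext h2 k2, Prod.ext h3 k3, Prod.ext h4 k4, Prod.ext h5 k5, Prod.ext h6 k6, Prod.ext h7 k7, Prod.ext h8 k8, Prod.ext h9 k9, Prod.ext h10 k10, Prod.ext h11 k11, Prod.ext h12 k12, Prod.ext h13 k13, Prod.ext h14 k14⟩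

theorem Rel.sat {G : Type*} [Group G] {t c d i j : G} (h : Rel t c d i j) :
    ∀ R ∈ LDE.rels, ev (lt [t, c, d, i, j]) R = 1 := by
  obtain ⟨h0, h1, h2, h3, h4, h5, h6, h7, h8, h9, h10, h11, h12, h13, h14⟩ := h
  exact List.forall_mem_cons.2 ⟨show t * (t * 1) = 1 by
      simpa only [mul_assoc, mul_inv_rev, inv_inv, inv_one, mul_one, one_mul] using mul_inv_eq_one.2 h0,
    List.forall_mem_cons.2 ⟨show d * (d * 1) = 1 by
      simpa only [mul_assoc, mul_inv_rev, inv_inv, inv_one, mul_one, one_mul] using mul_inv_eq_one.2 h1,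
    List.forall_mem_cons.2 ⟨show i * (i * (i * (i * 1))) = 1 by
      simpa only [mul_assoc, mul_inv_rev, inv_inv, inv_one, mul_one, one_mul] using mul_inv_eq_one.2 h2,
    List.forall_mem_cons.2 ⟨show j * (j * (i⁻¹ * (i⁻¹ * 1))) = 1 by
      simpa only [mul_assoc, mul_inv_rev, inv_inv, inv_one, mul_one, one_mul] using mul_inv_eq_one.2 h3,
    List.forall_mem_cons.2 ⟨show i * (j * (i * (j⁻¹ * 1))) = 1 by
      simpa only [mul_assoc, mul_inv_rev, inv_inv, inv_one, mul_one, one_mul] using mul_inv_eq_one.2 h4,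
    List.forall_mem_cons.2 ⟨show c * (c * (i⁻¹ * (i⁻¹ * 1))) = 1 by
      simpa only [mul_assoc, mul_inv_rev, inv_inv, inv_one, mul_one, one_mul] using mul_inv_eq_one.2 h5,
    List.forall_mem_cons.2 ⟨show t * (c * (t⁻¹ * (c⁻¹ * 1))) = 1 by
      simpa only [mul_assoc, mul_inv_rev, inv_inv, inv_one, mul_one, one_mul] using mul_inv_eq_one.2 h6,
    List.forall_mem_cons.2 ⟨show t * (i * (t⁻¹ * (i⁻¹ * 1))) = 1 by
      simpa only [mul_assoc, mul_inv_rev, inv_inv, inv_one, mul_one, one_mul] using mul_inv_eq_one.2 h7,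
    List.forall_mem_cons.2 ⟨show t * (j * (t⁻¹ * (j⁻¹ * 1))) = 1 by
      simpa only [mul_assoc, mul_inv_rev, inv_inv, inv_one, mul_one, one_mul] using mul_inv_eq_one.2 h8,
    List.forall_mem_cons.2 ⟨show c * (i * (c⁻¹ * (i⁻¹ * 1))) = 1 by
      simpa only [mul_assoc, mul_inv_rev, inv_inv, inv_one, mul_one, one_mul] using mul_inv_eq_one.2 h9,
    List.forall_mem_cons.2 ⟨show c * (j * (c⁻¹ * (j⁻¹ * 1))) = 1 by
      simpa only [mul_assoc, mul_inv_rev, inv_inv, inv_one, mul_one, one_mul] using mul_inv_eq_one.2 h10,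
    List.forall_mem_cons.2 ⟨show d * (i * (d⁻¹ * (i⁻¹ * 1))) = 1 by
      simpa only [mul_assoc, mul_inv_rev, inv_inv, inv_one, mul_one, one_mul] using mul_inv_eq_one.2 h11,
    List.forall_mem_cons.2 ⟨show d * (j * (d⁻¹ * (j⁻¹ * 1))) = 1 by
      simpa only [mul_assoc, mul_inv_rev, inv_inv, inv_one, mul_one, one_mul] using mul_inv_eq_one.2 h12,
    List.forall_mem_cons.2 ⟨show d * (t * (d * (i⁻¹ * (i⁻¹ * (t⁻¹ * 1))))) = 1 by
      simpa only [mul_assoc, mul_inv_rev, inv_inv, inv_one, mul_one, one_mul] using mul_inv_eq_one.2 h13,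
    List.forall_mem_cons.2 ⟨show d * (c * (d * (c * 1))) = 1 by
      simpa only [mul_assoc, mul_inv_rev, inv_inv, inv_one, mul_one, one_mul] using mul_inv_eq_one.2 h14,
    fun _ h => absurd h List.not_mem_nil⟩⟩⟩⟩⟩⟩⟩⟩⟩⟩⟩⟩⟩⟩⟩

theorem Rel.of_sat {G : Type*} [Group G] {t c d i j : G}
    (h : ∀ R ∈ LDE.rels, ev (lt [t, c, d, i, j]) R = 1) : Rel t c d i j := by
  obtain ⟨h0, h⟩ := List.forall_mem_cons.1 h
  obtain ⟨h1, h⟩ := List.forall_mem_cons.1 h
  obtain ⟨h2, h⟩ := List.forall_mem_cons.1 h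
  obtain ⟨h3, h⟩ := List.forall_mem_cons.1 h
  obtain ⟨h4, h⟩ := List.forall_mem_cons.1 h
  obtain ⟨h5, h⟩ := List.forall_mem_cons.1 h
  obtain ⟨h6, h⟩ := List.forall_mem_cons.1 h
  obtain ⟨h7, h⟩ := List.forall_mem_cons.1 h
  obtain ⟨h8, h⟩ := List.forall_mem_cons.1 h
  obtain ⟨h9, h⟩ := List.forall_mem_cons.1 h
  obtain ⟨h10, h⟩ := List.forall_mem_cons.1 h
  obtain ⟨h11, h⟩ := List.forall_mem_cons.1 h
  obtain ⟨h12, h⟩ := List.forall_mem_cons.1 h
  obtain ⟨h13, h⟩ := List.forall_mem_cons.1 h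
  obtain ⟨h14, h⟩ := List.forall_mem_cons.1 h
  exact ⟨mul_inv_eq_one.1 (by simpa only [mul_assoc, mul_inv_rev, inv_inv, inv_one, mul_one, one_mul] using (show t * (t * 1) = 1 from h0)),
    mul_inv_eq_one.1 (by simpa only [mul_assoc, mul_inv_rev, inv_inv, inv_one, mul_one, one_mul] using (show d * (d * 1) = 1 from h1)),
    mul_inv_eq_one.1 (by simpa only [mul_assoc, mul_inv_rev, inv_inv, inv_one, mul_one, one_mul] using (show i * (i * (i * (i * 1))) = 1 from h2)),
    mul_inv_eq_one.1 (by simpa only [mul_assoc, mul_inv_rev, inv_inv, inv_one, mul_one, one_mul] using (show j * (j * (i⁻¹ * (i⁻¹ * 1))) = 1 from h3)),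
    mul_inv_eq_one.1 (by simpa only [mul_assoc, mul_inv_rev, inv_inv, inv_one, mul_one, one_mul] using (show i * (j * (i * (j⁻¹ * 1))) = 1 from h4)),
    mul_inv_eq_one.1 (by simpa only [mul_assoc, mul_inv_rev, inv_inv, inv_one, mul_one, one_mul] using (show c * (c * (i⁻¹ * (i⁻¹ * 1))) = 1 from h5)),
    mul_inv_eq_one.1 (by simpa only [mul_assoc, mul_inv_rev, inv_inv, inv_one, mul_one, one_mul] using (show t * (c * (t⁻¹ * (c⁻¹ * 1))) = 1 from h6)),
    mul_inv_eq_one.1 (by simpa only [mul_assoc, mul_inv_rev, inv_inv, inv_one, mul_one, one_mul] using (show t * (i * (t⁻¹ * (i⁻¹ * 1))) = 1 from h7)),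
    mul_inv_eq_one.1 (by simpa only [mul_assoc, mul_inv_rev, inv_inv, inv_one, mul_one, one_mul] using (show t * (j * (t⁻¹ * (j⁻¹ * 1))) = 1 from h8)),
    mul_inv_eq_one.1 (by simpa only [mul_assoc, mul_inv_rev, inv_inv, inv_one, mul_one, one_mul] using (show c * (i * (c⁻¹ * (i⁻¹ * 1))) = 1 from h9)),
    mul_inv_eq_one.1 (by simpa only [mul_assoc, mul_inv_rev, inv_inv, inv_one, mul_one, one_mul] using (show c * (j * (c⁻¹ * (j⁻¹ * 1))) = 1 from h10)),
    mul_inv_eq_one.1 (by simpa only [mul_assoc, mul_inv_rev, inv_inv, inv_one, mul_one, one_mul] using (show d * (i * (d⁻¹ * (i⁻¹ * 1))) = 1 from h11)),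
    mul_inv_eq_one.1 (by simpa only [mul_assoc, mul_inv_rev, inv_inv, inv_one, mul_one, one_mul] using (show d * (j * (d⁻¹ * (j⁻¹ * 1))) = 1 from h12)),
    mul_inv_eq_one.1 (by simpa only [mul_assoc, mul_inv_rev, inv_inv, inv_one, mul_one, one_mul] using (show d * (t * (d * (i⁻¹ * (i⁻¹ * (t⁻¹ * 1))))) = 1 from h13)),
    mul_inv_eq_one.1 (by simpa only [mul_assoc, mul_inv_rev, inv_inv, inv_one, mul_one, one_mul] using (show d * (c * (d * (c * 1))) = 1 from h14))⟩

theorem rel : Rel t c d i j := by decide +kernel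

theorem model {G : Type*} [Group G] {t' c' d' i' j' : G} (h : Rel t' c' d' i' j') :
    ∃ φ : E →* G, φ t = t' ∧ φ c = c' ∧ φ d = d' ∧ φ i = i' ∧ φ j = j' := by
  obtain ⟨pt, h0, -, hT⟩ := LDE.enum (lt [t', c', d', i', j']) (1 : G)
    (lt_icol _ _ (k := 5) rfl (by decide +kernel)) (lt_ge le_rfl) h.sat
    (fun _ h => absurd h List.not_mem_nil)
  obtain ⟨φ, hφ⟩ := exists_hom tb (l := [t', c', d', i', j']) rfl h0 hT hom_chk
  exact ⟨φ, by simpa only [List.cons.injEq, and_true] using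
    (show [φ t, φ c, φ d, φ i, φ j] = [t', c', d', i', j'] from hφ)⟩

end H69.LD
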